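import Cfsg.Agent.ThCent.Core
import Cfsg.Prelude.Def_Spor_Th

/-!
The presented centraliser maps to the presented Thompson group, and in this group `u` carries
`(a c) ^ b` to `(a c) ^ b · e`.
-/

set_option autoImplicit false
set_option maxRecDepth 100000

namespace Cfsg.Agent.ThCent

open Cfsg.Agent.CosetCert

/-- The generators `a, c, d, e, s, t, u` of Th. -/
def thGen : Fin 7 → Spor.Th.Gen := ![.a, .c, .d, .e, .s, .t, .u]

theorem relWords_in_extra : ∀ l ∈ CPC.relWords,
    FreeGroup.mk (l.map fun x => (thGen x.1, x.2)) ∈ Spor.Th.extra := by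
  decide +kernel

/-- The map to the presented group Th. -/
noncomputable def toTh : PC →* Spor.Th :=
  PresentedGroup.toGroup (f := fun i => (PresentedGroup.of (thGen i) : Spor.Th))
    (rel_one fun l hl => by
      have e : FreeGroup.lift (fun i => (PresentedGroup.of (thGen i) : Spor.Th)) =
          (PresentedGroup.mk _).comp (FreeGroup.map thGen) := by
        apply FreeGroup.ext_hom; intro b; simp [PresentedGroup.of]
      rw [e, MonoidHom.comp_apply, FreeGroup.map.mk]
      exact PresentedGroup.one_of_mem (Or.inr (relWords_in_extra l hl)))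

theorem toTh_of (i : Fin 7) : toTh (PresentedGroup.of i) = PresentedGroup.of (thGen i) := by
  simp [toTh]

/-- A generator of Th. -/
noncomputable abbrev thOf (g : Spor.Th.Gen) : Spor.Th := PresentedGroup.of g

theorem th_sq {g : Spor.Th.Gen} (hg : (FreeGroup.of g) ^ 2 ∈ Spor.Th.extra) : thOf g * thOf g = 1 := by
  have h : (PresentedGroup.mk _ ((FreeGroup.of g) ^ 2) : Spor.Th) = 1 :=
    PresentedGroup.one_of_mem (Or.inr hg)
  rwa [map_pow, pow_two] at h

/-- The fusing relation `[u, (a c) ^ b] = e`. -/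
theorem fusion :
    IsConj ((thOf .b)⁻¹ * (thOf .a * thOf .c) * thOf .b)⁻¹
      (thOf .e * ((thOf .b)⁻¹ * (thOf .a * thOf .c) * thOf .b)⁻¹) := by
  set x := (thOf .b)⁻¹ * (thOf .a * thOf .c) * thOf .b with hx
  have h : (thOf .u)⁻¹ * x⁻¹ * thOf .u * x * (thOf .e)⁻¹ = 1 := by
    have h0 : (PresentedGroup.mk _ ((Spor.Th.u⁻¹ * (Spor.Th.b⁻¹ * (Spor.Th.a * Spor.Th.c) *
        Spor.Th.b)⁻¹ * Spor.Th.u * (Spor.Th.b⁻¹ * (Spor.Th.a * Spor.Th.c) * Spor.Th.b)) *
        (Spor.Th.e⁻¹)) : Spor.Th) = 1 :=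
      PresentedGroup.one_of_mem (Or.inr (by simp [Spor.Th.extra]))
    simp only [map_mul, map_inv] at h0
    rw [hx]
    exact h0
  refine isConj_iff.2 ⟨(thOf .u)⁻¹, ?_⟩
  rw [inv_inv]
  calc (thOf .u)⁻¹ * x⁻¹ * thOf .u
      = (thOf .u)⁻¹ * x⁻¹ * thOf .u * x * (thOf .e)⁻¹ * (thOf .e * x⁻¹) := by group
    _ = thOf .e * x⁻¹ := by rw [h, one_mul]

end Cfsg.Agent.ThCent
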