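import Cfsg.Agent.ThCent.PointTh
import Cfsg.Agent.ThCent.ToTh
import Cfsg.Agent.DCoset.Th.Simple

/-!
The centraliser of `a` in the presented Thompson group, given the order of this group.
-/

set_option autoImplicit false
set_option maxRecDepth 100000

namespace Cfsg.Agent.ThCent

open Cfsg.Agent.CosetCert Cfsg.Agent.DCoset Subgroup
open Cfsg.Spor.Th (Gen)

theorem iota_of_gen (b : Fin 7) :
    Th.iota (PresentedGroup.of b) = (PresentedGroup.of (Th.genOf b) : Spor.Th) :=
  Th.iota_of b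

theorem iota_el {g : Fin 9} {b : Fin 7} (h : toModel g = b.val) :
    Th.iota (point.el g) = (PresentedGroup.of (Th.genOf b) : Spor.Th) := by
  show Th.iota (Th.qB (toModel g)) = _
  rw [h, Th.qB, if_pos b.2, ← iota_of_gen]
  congr 2
  exact Fin.ext (by rw [Fin.val_ofNat, Nat.mod_eq_of_lt b.2])

theorem key_fuse_a : Nat.beq (key (cA 58)) (key [1, 2, 0, 1]) = true := by decide +kernel

theorem key_fuse_b : Nat.beq (key [4, 1, 2, 0, 1]) (key repB) = true := by decide +kernel

theorem low_letters : ∀ i : Fin 6,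
    ∃ b : Fin 7, toModel (pointLetter i) = b.val ∧ Th.genOf b = thGen i.castSucc := by
  decide

theorem gen_cases : ∀ g : Gen, g = .u ∨ ∃ b : Fin 7, Th.genOf b = g := by
  intro g
  cases g
  exacts [Or.inr ⟨0, rfl⟩, Or.inr ⟨1, rfl⟩, Or.inr ⟨2, rfl⟩, Or.inr ⟨3, rfl⟩, Or.inr ⟨4, rfl⟩,
    Or.inr ⟨5, rfl⟩, Or.inr ⟨6, rfl⟩, Or.inl rfl]

theorem u_notMem (h : Th.Big) : (PresentedGroup.of Gen.u : Spor.Th) ∉ Th.iota.range := by
  intro hu
  have htop : Th.iota.range = ⊤ := by
    rw [eq_top_iff, ← PresentedGroup.closure_range_of, closure_le]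
    rintro _ ⟨g, rfl⟩
    rcases gen_cases g with rfl | ⟨b, rfl⟩
    · exact hu
    · exact ⟨PresentedGroup.of b, iota_of_gen b⟩
  have h2 := (Th.exact_of_big h).2.1
  rw [htop, Subgroup.index_top] at h2
  omega

theorem fuse : IsConj (Th.iota point.za) (Th.iota point.zb) := by
  have hA : IsConj point.za (point.wordEl [1, 2, 0, 1]) := by
    have e := point.eq_of_key (cA 58) [1, 2, 0, 1] (conjW_lt zero_lt (wA_lt (by norm_num)))
      (by decide) (Nat.eq_of_beq_eq_true key_fuse_a)
    exact e ▸ point.conjA_isConj ⟨58, by norm_num⟩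
  have hB : point.zb = point.wordEl [4, 1, 2, 0, 1] :=
    (point.eq_of_key [4, 1, 2, 0, 1] repB (by decide) repB_lt
      (Nat.eq_of_beq_eq_true key_fuse_b)).symm
  have hinv : ∀ g : Fin 9, g.val < 5 → (point.el g)⁻¹ = point.el g := fun g hg => by
    rw [← point.el_inv g]
    congr 1
    exact (show ∀ g : Fin 9, g.val < 5 → Fin.ofNat 9 (ivl g) = g by decide) g hg
  have e0 := iota_el (g := 0) (b := 0) rfl
  have e1 := iota_el (g := 1) (b := 1) rfl
  have e2 := iota_el (g := 2) (b := 2) rfl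
  have e4 := iota_el (g := 4) (b := 4) rfl
  have ex : point.wordEl [1, 2, 0, 1] = ((point.el 1)⁻¹ * (point.el 0 * point.el 2) * point.el 1)⁻¹ := by
    simp [Point.wordEl, mul_assoc, hinv 0 (by decide), hinv 1 (by decide), hinv 2 (by decide)]
    rfl
  have ey : point.wordEl [4, 1, 2, 0, 1] =
      point.el 4 * ((point.el 1)⁻¹ * (point.el 0 * point.el 2) * point.el 1)⁻¹ := by
    rw [← ex]; simp [Point.wordEl]
  refine (MonoidHom.map_isConj Th.iota hA).trans ?_
  rw [hB, ex, ey]
  simp only [map_mul, map_inv, e0, e1, e2, e4]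
  exact fusion

theorem stab_fixes {m a : ℕ} (hm : m < Th.cover.nLive) (ha : a < Th.cover.nStab m) :
    Th.iota (Th.model.el (Th.cover.stabW m a)) •
        (QuotientGroup.mk (Steps.rep Th.steps (Th.model.toModel Th.iota) Th.gT (Th.cover.live m))⁻¹ :
          Th.GTh ⧸ Th.iota.range) =
      QuotientGroup.mk (Steps.rep Th.steps (Th.model.toModel Th.iota) Th.gT (Th.cover.live m))⁻¹ := by
  have h := Th.valid_model.stab_ok m a hm ha
  simp only [WalkCover.checkStab, force_eq, gate_eq, Bool.and_eq_true] at h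
  obtain ⟨⟨hw, -⟩, hs, eI, eJ, eT, eH, eK⟩ := h
  obtain ⟨-, x, y, hx, hy, hmem⟩ := Th.facts _ (Nat.ble_eq.mp hs)
  obtain ⟨x', hx', rfl⟩ := hx
  obtain ⟨y', hy', rfl⟩ := hy
  rw [Nat.eq_of_beq_eq_true eH, WalkCover.appP_base hw] at hx'
  rw [Nat.eq_of_beq_eq_true eK, ← Th.model.one] at hy'
  rw [Nat.eq_of_beq_eq_true eI, Nat.eq_of_beq_eq_true eJ, Nat.eq_of_beq_eq_true eT, Th.sound.T_zero,
    Th.model.inj hx', Th.model.inj hy'] at hmem
  rw [MulAction.Quotient.smul_mk, smul_eq_mul, QuotientGroup.eq]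
  have := inv_mem hmem
  simpa [mul_assoc] using this

theorem fix_le_of_big (h : Th.Big) :
    Nat.card {z : Spor.Th ⧸ Th.iota.range // Th.iota point.za • z = z} ≤ 10200 := by
  classical
  have := Th.th_finite.1
  have := Th.hgroup_card.1
  obtain ⟨pt, label, hlab, hcov, hidx, hcard, -, hpt0⟩ := Th.orbits_of_big h
  refine fix_le Th.iota pt label hlab hcov (fun m => ?_) (fun m => ?_) (fun m a ha => ?_)
    (fun m hm => Th.valid_model.idx_eq m hm)
    (fun m l a hm hl ha => Th.valid_model.chain_gen m l a hm hl ha)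
    (fun m l a hm hl ha => Th.valid_model.chain_mem m l a hm hl ha)
    (fun m l j hm hl hj => Th.valid_model.chain_pt m l j hm hl hj)
  · have hpos : 0 < Th.cover.idx m := by
      refine Nat.pos_of_ne_zero fun h0 => ?_
      have := hcard m
      rw [h0, mul_zero, Th.hgroup_card_eq] at this
      omega
    rw [← hidx m] at hpos
    obtain ⟨⟨z, hz⟩⟩ := (Nat.card_pos_iff.1 hpos).1
    obtain ⟨q, hq⟩ := hcov z
    rw [hz] at hq
    rw [hq, hlab] at hz
    exact hz
  · exact (hcard m).trans Th.hgroup_card_eq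
  · rw [hpt0 m]
    exact stab_fixes m.2 ha

/-- The configuration in the presented Thompson group. -/
noncomputable def thCfg (h : Th.Big) : Cfg Spor.Th Th.HGroup where
  P := point
  ι := Th.iota
  ι_inj := (Th.exact_of_big h).2.2.2
  card_Q := Th.hgroup_card_eq
  φ := toTh
  φ_low i := by
    obtain ⟨b, hb, hg⟩ := low_letters i
    rw [toTh_of, iota_el hb, hg]
  u_out := by
    rw [toTh_of]
    exact u_notMem h
  fuse := fuse
  fix_le := fix_le_of_big h

/-- Th has an involution centraliser `2^(1+8).A₉`. -/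
theorem structure_of_big (h : Th.Big) :
    ∃ (G : Type) (_ : Group G) (_ : Finite G), Cfsg.IsTh G ∧ ∃ z : G, orderOf z = 2 ∧
      ∃ (Q : Subgroup (Subgroup.centralizer ({z} : Set G))) (_ : Q.Normal),
        Nat.card Q = 2 ^ 9 ∧ Cfsg.IsExtraspecial 2 Q ∧
          Nonempty ((Subgroup.centralizer ({z} : Set G)) ⧸ Q ≃* alternatingGroup (Fin 9)) := by
  have := Th.th_finite.1
  obtain ⟨h2, hQ⟩ := (thCfg h).structure_centralizer
  exact ⟨Spor.Th, inferInstance, inferInstance, Th.isTh_of_big h, _, h2, hQ⟩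

end Cfsg.Agent.ThCent
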