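import Cfsg.Agent.ThCent.PointChecks
import Cfsg.Agent.DCoset.FixCount

/-!
The two classes of involutions of `³D₄(2):3` met by the class of `a` in Th: at least `819`
conjugates of `a` and at least `68796` of the second representative.
-/

set_option autoImplicit false
set_option maxRecDepth 100000

namespace Cfsg.Agent.ThCent

open Cfsg.Agent.CosetCert Subgroup

/-- A group acting on the 819 points by the tabled letters, the five base points telling its
elements apart. -/
structure Point (Q : Type*) [Group Q] where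
  /-- the action -/
  ρ : Q →* Equiv.Perm (Fin 819)
  /-- the letters -/
  el : Fin 9 → Q
  el_inv : ∀ g : Fin 9, el (Fin.ofNat 9 (ivl g)) = (el g)⁻¹
  act_el : ∀ (g : Fin 9) (p : Fin 819), ((((ρ (el g))⁻¹) p : Fin 819) : ℕ) = act g p
  base_inj : ∀ x : Q, ρ x 1 = 1 → ρ x 3 = 3 → ρ x 5 = 5 → ρ x 9 = 9 → ρ x 15 = 15 → x = 1
  gen : closure (Set.range el) = ⊤

theorem okW_iff : ∀ l : List Nat, okW l = true ↔ ∀ g ∈ l, g < 9
  | [] => by simp [okW]
  | g :: l => by
    rw [List.forall_mem_cons, ← okW_iff l]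
    show gate (Nat.blt g 9) (okW l) = true ↔ _
    rw [gate_eq, Bool.and_eq_true, Nat.blt_eq]

theorem run_cons (g : Nat) (l : List Nat) (p : Nat) : run (g :: l) p = run l (act g p) := by
  show force (act g p) (fun q => run l q) = _
  rw [force_eq]

theorem run_lt : ∀ (l : List Nat), (∀ g ∈ l, g < 9) → ∀ p, p < 819 → run l p < 819
  | [], _, _, hp => hp
  | g :: l, hl, p, hp => by
    rw [run_cons]
    refine run_lt l (fun x hx => hl x (List.mem_cons_of_mem _ hx)) _ ?_
    have h := allFrom_iff _ _ _ |>.1 act_all g (Nat.zero_le _) (by simpa using hl g List.mem_cons_self)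
    have h2 := allFrom_iff _ _ _ |>.1 h p (Nat.zero_le _) (by simpa using hp)
    exact Nat.ble_eq.mp h2

theorem ivl_lt {g : Nat} (h : g < 9) : ivl g < 9 := by unfold ivl; split_ifs <;> omega

theorem invW_lt {l : List Nat} (hl : ∀ g ∈ l, g < 9) : ∀ g ∈ invW l, g < 9 := by
  intro g hg
  obtain ⟨x, hx, rfl⟩ := List.mem_map.1 hg
  exact ivl_lt (hl x (List.mem_reverse.1 hx))

theorem conjW_lt {x g : List Nat} (hx : ∀ k ∈ x, k < 9) (hg : ∀ k ∈ g, k < 9) :
    ∀ k ∈ conjW x g, k < 9 := by
  intro k hk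
  simp only [conjW, List.mem_append] at hk
  rcases hk with (hk | hk) | hk
  exacts [invW_lt hg k hk, hx k hk, hg k hk]

theorem repB_lt : ∀ k ∈ repB, k < 9 := by decide

theorem zero_lt : ∀ k ∈ ([0] : List Nat), k < 9 := by decide

theorem wA_lt {p : ℕ} (hp : p < 819) : ∀ g ∈ decW (wA p), g < 9 := by
  have h := (allFrom_iff _ _ _).1 a_all p (Nat.zero_le _) (by omega)
  simp only [checkA, gate_eq, Bool.and_eq_true] at h
  exact (okW_iff _).1 h.1

theorem wB_lt {i : ℕ} (hi : i < 2268) : ∀ g ∈ decW (wB i), g < 9 := by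
  have h := (allFrom_iff _ _ _).1 b_all i (Nat.zero_le _) (by omega)
  simp only [checkB, gate_eq, Bool.and_eq_true] at h
  exact (okW_iff _).1 h.1

namespace Point

variable {Q : Type*} [Group Q] (P : Point Q)

/-- The element of a word. -/
def wordEl (l : List Nat) : Q := (l.map fun g => P.el (Fin.ofNat 9 g)).prod

theorem wordEl_append (l m : List Nat) : P.wordEl (l ++ m) = P.wordEl l * P.wordEl m := by
  simp [wordEl]

theorem wordEl_inv : ∀ l : List Nat, (∀ g ∈ l, g < 9) → P.wordEl (invW l) = (P.wordEl l)⁻¹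
  | [], _ => by simp [wordEl, invW]
  | g :: l, hl => by
    have ih := wordEl_inv l fun x hx => hl x (List.mem_cons_of_mem _ hx)
    have hg : Fin.ofNat 9 (ivl g) = Fin.ofNat 9 (ivl (Fin.ofNat 9 g : Fin 9)) := by
      rw [Fin.val_ofNat, Nat.mod_eq_of_lt (hl g List.mem_cons_self)]
    simp only [invW, List.reverse_cons, List.map_append] at ih ⊢
    rw [wordEl_append, ih]
    simp only [wordEl, List.map_cons, List.map_nil, List.prod_cons, List.prod_nil, mul_one]
    rw [hg, P.el_inv, mul_inv_rev]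

theorem wordEl_conjW (x g : List Nat) (hg : ∀ k ∈ g, k < 9) :
    P.wordEl (conjW x g) = (P.wordEl g)⁻¹ * P.wordEl x * P.wordEl g := by
  rw [conjW, wordEl_append, wordEl_append, P.wordEl_inv g hg]

theorem apply_wordEl : ∀ (l : List Nat), (∀ g ∈ l, g < 9) → ∀ p : Fin 819,
    ((((P.ρ (P.wordEl l))⁻¹) p : Fin 819) : ℕ) = run l p
  | [], _, p => by simp [wordEl, run]
  | g :: l, hl, p => by
    have e : P.wordEl (g :: l) = P.el (Fin.ofNat 9 g) * P.wordEl l := by simp [wordEl]
    rw [e, map_mul, mul_inv_rev, Equiv.Perm.mul_apply, run_cons,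
      apply_wordEl l (fun x hx => hl x (List.mem_cons_of_mem _ hx)), P.act_el, Fin.val_ofNat,
      Nat.mod_eq_of_lt (hl g List.mem_cons_self)]

theorem eq_of_key (x y : List Nat) (hx : ∀ g ∈ x, g < 9) (hy : ∀ g ∈ y, g < 9)
    (h : key x = key y) : P.wordEl x = P.wordEl y := by
  simp only [key, Nat.add_eq, Nat.mul_eq] at h
  have b := fun (q : ℕ) (hq : q < 819) => run_lt x hx q hq
  have c := fun (q : ℕ) (hq : q < 819) => run_lt y hy q hq
  have := b 1 (by omega); have := b 3 (by omega); have := b 5 (by omega)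
  have := b 9 (by omega); have := b 15 (by omega)
  have := c 1 (by omega); have := c 3 (by omega); have := c 5 (by omega)
  have := c 9 (by omega); have := c 15 (by omega)
  have hfix : ∀ q : Fin 819, run x q = run y q → P.ρ (P.wordEl y * (P.wordEl x)⁻¹) q = q := by
    intro q hq
    rw [map_mul, map_inv, Equiv.Perm.mul_apply]
    have : (P.ρ (P.wordEl x))⁻¹ q = (P.ρ (P.wordEl y))⁻¹ q := by
      apply Fin.ext
      rw [P.apply_wordEl x hx, P.apply_wordEl y hy, hq]
    rw [this]
    exact (P.ρ (P.wordEl y)).apply_symm_apply q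
  symm
  rw [← mul_inv_eq_one]
  refine P.base_inj _ (hfix 1 ?_) (hfix 3 ?_) (hfix 5 ?_) (hfix 9 ?_) (hfix 15 ?_)
  all_goals
    show run x _ = run y _
    simp only [show ((1 : Fin 819) : ℕ) = 1 from rfl, show ((3 : Fin 819) : ℕ) = 3 from rfl,
      show ((5 : Fin 819) : ℕ) = 5 from rfl, show ((9 : Fin 819) : ℕ) = 9 from rfl,
      show ((15 : Fin 819) : ℕ) = 15 from rfl]
    omega

theorem key_of_eq (x y : List Nat) (hx : ∀ g ∈ x, g < 9) (hy : ∀ g ∈ y, g < 9)
    (h : P.wordEl x = P.wordEl y) : key x = key y := by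
  have e : ∀ q : Fin 819, run x q = run y q := fun q => by
    rw [← P.apply_wordEl x hx, ← P.apply_wordEl y hy, h]
  have := e 1; have := e 3; have := e 5; have := e 9; have := e 15
  simp only [key]
  simp_all

/-- The image of `a`. -/
def za : Q := P.el 0

/-- The representative of the second class. -/
def zb : Q := P.wordEl repB

/-- The listed conjugates of `a`. -/
noncomputable def conjA (p : Fin 819) : Q := P.wordEl (cA p)

theorem conjA_isConj (p : Fin 819) : IsConj P.za (P.conjA p) := by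
  refine isConj_iff.2 ⟨(P.wordEl (decW (wA p)))⁻¹, ?_⟩
  rw [inv_inv, conjA, cA, P.wordEl_conjW _ _ (wA_lt p.2)]
  simp [za, wordEl]

theorem conjA_injective : Function.Injective P.conjA := by
  have hord : ∀ i j : ℕ, i < j → j < 819 → kA (ordA i) < kA (ordA j) := by
    intro i j hij
    induction hij with
    | refl =>
      intro hj
      have h := (allFrom_iff _ _ _).1 ordA_all i (Nat.zero_le _) (by omega)
      simp only [checkOrdA, gate_eq, Bool.and_eq_true] at h
      exact Nat.ble_eq.mp h.2.2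
    | @step m _ ih =>
      intro hj
      have h := (allFrom_iff _ _ _).1 ordA_all m (Nat.zero_le _) (by omega)
      simp only [checkOrdA, gate_eq, Bool.and_eq_true] at h
      exact (ih (by omega)).trans (Nat.ble_eq.mp h.2.2)
  have hlt : ∀ i, i < 819 → ordA i < 819 := by
    intro i hi
    rcases Nat.lt_or_ge i 818 with h | h
    · have h' := (allFrom_iff _ _ _).1 ordA_all i (Nat.zero_le _) (by omega)
      simp only [checkOrdA, gate_eq, Bool.and_eq_true] at h'
      exact Nat.ble_eq.mp h'.1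
    · have h' := (allFrom_iff _ _ _).1 ordA_all 817 (Nat.zero_le _) (by omega)
      simp only [checkOrdA, gate_eq, Bool.and_eq_true] at h'
      obtain rfl : i = Nat.succ 817 := by omega
      exact Nat.ble_eq.mp h'.2.1
  let o : Fin 819 → Fin 819 := fun i => ⟨ordA i, hlt i i.2⟩
  have hkey : ∀ p : Fin 819, key (cA p) = kA p := fun p => by
    have h := (allFrom_iff _ _ _).1 a_all p (Nat.zero_le _) (by omega)
    simp only [checkA, gate_eq, Bool.and_eq_true] at h
    exact Nat.eq_of_beq_eq_true h.2.1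
  have hoi : Function.Injective o := by
    intro i j h
    have h' : kA (ordA i) = kA (ordA j) := congrArg kA (congrArg Fin.val h)
    rcases lt_trichotomy i.val j.val with hl | hl | hl
    · exact absurd h' (hord _ _ hl j.2).ne
    · exact Fin.ext hl
    · exact absurd h'.symm (hord _ _ hl i.2).ne
  have hos : Function.Surjective o := Finite.injective_iff_surjective.1 hoi
  intro p q h
  obtain ⟨i, rfl⟩ := hos p
  obtain ⟨j, rfl⟩ := hos q
  have h' : kA (ordA i) = kA (ordA j) := by
    have := P.key_of_eq _ _ (conjW_lt zero_lt (wA_lt (o i).2)) (conjW_lt zero_lt (wA_lt (o j).2)) h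
    rwa [← cA, ← cA, hkey, hkey] at this
  rcases lt_trichotomy i.val j.val with hl | hl | hl
  · exact absurd h' (hord _ _ hl j.2).ne
  · rw [Fin.ext hl]
  · exact absurd h'.symm (hord _ _ hl i.2).ne

theorem conjA_surj [Finite Q] {s : Q} (h : IsConj P.za s) : ∃ p, P.conjA p = s := by
  obtain ⟨x, rfl⟩ := isConj_iff.1 h
  have hclosed : ∀ y : Q, ∀ p, ∃ q, P.conjA q = y * P.conjA p * y⁻¹ := by
    let S : Submonoid Q :=
      { carrier := {y | ∀ p, ∃ q, P.conjA q = y * P.conjA p * y⁻¹}
        one_mem' := fun p => ⟨p, by simp⟩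
        mul_mem' := fun {u v} hu hv p => by
          obtain ⟨q, hq⟩ := hv p
          obtain ⟨r, hr⟩ := hu q
          exact ⟨r, by rw [hr, hq]; group⟩ }
    have hS : ∀ g : Fin 9, (P.el g)⁻¹ ∈ S := by
      intro g p
      have h := (allFrom_iff _ _ _).1 a_all p (Nat.zero_le _) (by omega)
      simp only [checkA, gate_eq, Bool.and_eq_true] at h
      have h2 := (allFrom_iff _ _ _).1 h.2.2 g (Nat.zero_le _) (by omega)
      simp only [force_eq, Bool.and_eq_true] at h2
      obtain ⟨hq, he⟩ := h2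
      refine ⟨⟨nxtA p g, Nat.ble_eq.mp hq⟩, ?_⟩
      have hw : ∀ k ∈ decW (wA p) ++ [(g : ℕ)], k < 9 := by
        intro k hk
        rcases List.mem_append.1 hk with hk | hk
        · exact wA_lt p.2 k hk
        · rw [List.mem_singleton.1 hk]; exact g.2
      have hk := (allFrom_iff _ _ _).1 a_all (nxtA p g) (Nat.zero_le _)
        (by have := Nat.ble_eq.mp hq; omega)
      simp only [checkA, gate_eq, Bool.and_eq_true] at hk
      have e := P.eq_of_key (cA (nxtA p g)) (conjW [0] (decW (wA p) ++ [(g : ℕ)]))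
        (conjW_lt zero_lt ((okW_iff _).1 hk.1)) (conjW_lt zero_lt hw)
        ((Nat.eq_of_beq_eq_true hk.2.1).trans (Nat.eq_of_beq_eq_true he).symm)
      show P.wordEl _ = _
      rw [e, P.wordEl_conjW _ _ hw, conjA, cA, P.wordEl_conjW _ _ (wA_lt p.2), inv_inv,
        wordEl_append, show P.wordEl [(g : ℕ)] = P.el g by simp [wordEl]]
      group
    intro y
    have hy : y ∈ S := by
      have hmem : y ∈ closure (Set.range P.el) := P.gen ▸ Subgroup.mem_top y
      have pinv : ∀ {u : Q}, u ∈ S → u⁻¹ ∈ S := fun {u} hu => by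
        obtain ⟨n, hn⟩ : ∃ n : ℕ, u ^ n = u⁻¹ := ⟨orderOf u - 1, eq_inv_of_mul_eq_one_left (by
          rw [← pow_succ, Nat.sub_add_cancel (orderOf_pos u), pow_orderOf_eq_one])⟩
        exact hn ▸ S.pow_mem hu n
      induction hmem using closure_induction with
      | mem u hu => obtain ⟨g, rfl⟩ := hu; simpa using pinv (hS g)
      | one => exact S.one_mem
      | mul u v _ _ hu hv => exact S.mul_mem hu hv
      | inv u _ hu => exact pinv hu
    exact hy
  obtain ⟨q, hq⟩ := hclosed x ⟨0, by omega⟩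
  refine ⟨q, hq.trans ?_⟩
  have : P.conjA ⟨0, by omega⟩ = P.za := by
    simp [conjA, cA, wA_zero, conjW, invW, wordEl, za]
  rw [this]

theorem card_classA [Finite Q] : Nat.card {s : Q // IsConj P.za s} = 819 := by
  have e : Fin 819 ≃ {s : Q // IsConj P.za s} :=
    Equiv.ofBijective (fun p => ⟨P.conjA p, P.conjA_isConj p⟩)
      ⟨fun p q h => P.conjA_injective (congrArg Subtype.val h),
        fun s => (P.conjA_surj s.2).imp fun p hp => Subtype.ext hp⟩
  rw [← Nat.card_congr e, Nat.card_fin]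

theorem fixCount_eq (l : List Nat) (hl : ∀ g ∈ l, g < 9) :
    Nat.card {p : Fin 819 // P.ρ (P.wordEl l) p = p} = fixCount l 819 := by
  classical
  have h : ∀ n, fixCount l n = ((Finset.range n).filter fun p => run l p = p).card := by
    intro n
    induction n with
    | zero => rfl
    | succ n ih =>
      rw [Finset.range_add_one, Finset.filter_insert]
      show Bool.rec (motive := fun _ => Nat) (fixCount l n) (Nat.succ (fixCount l n))
        (Nat.beq (run l n) n) = _
      cases hb : Nat.beq (run l n) n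
      · rw [if_neg fun e => Bool.false_ne_true (hb.symm.trans (by rw [e]; exact Nat.beq_refl n))]
        exact ih
      · rw [if_pos (Nat.eq_of_beq_eq_true hb), Finset.card_insert_of_notMem (by simp)]
        show fixCount l n + 1 = _
        rw [ih]
  rw [h 819, ← Nat.card_eq_finsetCard]
  refine Nat.card_congr ⟨fun p => ⟨p.1.val, ?_⟩,
    fun p => ⟨⟨p.1, Finset.mem_range.1 (Finset.mem_filter.1 p.2).1⟩, ?_⟩, fun p => rfl, fun p => rfl⟩
  · refine Finset.mem_filter.2 ⟨Finset.mem_range.2 p.1.2, ?_⟩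
    rw [← P.apply_wordEl l hl, Equiv.Perm.inv_eq_iff_eq.2 p.2.symm]
  · have := (P.apply_wordEl l hl ⟨p.1, Finset.mem_range.1 (Finset.mem_filter.1 p.2).1⟩).trans
      (Finset.mem_filter.1 p.2).2
    exact ((Equiv.Perm.inv_eq_iff_eq.1 (Fin.ext this)).symm)

theorem fix_conj {x s : Q} (h : IsConj x s) :
    Nat.card {p : Fin 819 // P.ρ s p = p} = Nat.card {p : Fin 819 // P.ρ x p = p} := by
  obtain ⟨c, rfl⟩ := isConj_iff.1 h
  refine (Nat.card_congr (Equiv.subtypeEquiv (P.ρ c) fun p => ?_)).symm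
  rw [map_mul, map_mul, map_inv, Equiv.Perm.mul_apply, Equiv.Perm.mul_apply,
    Equiv.Perm.coe_inv, Equiv.symm_apply_apply, EmbeddingLike.apply_eq_iff_eq]

/-- The listed conjugates of the second representative. -/
noncomputable def conjB (i : Fin 2268) : {s : Q // IsConj P.zb s ∧ P.ρ s 1 = 1} :=
  ⟨P.wordEl (cB i), isConj_iff.2 ⟨(P.wordEl (decW (wB i)))⁻¹, by
      rw [inv_inv, cB, P.wordEl_conjW _ _ (wB_lt i.2), zb]⟩, by
    have h := (allFrom_iff _ _ _).1 b_all i (Nat.zero_le _) (by omega)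
    simp only [checkB, gate_eq, Bool.and_eq_true] at h
    have h2 := P.apply_wordEl (cB i) (conjW_lt repB_lt (wB_lt i.2)) 1
    rw [show ((1 : Fin 819) : ℕ) = 1 from rfl, Nat.eq_of_beq_eq_true h.2] at h2
    exact (Equiv.Perm.inv_eq_iff_eq.1 (Fin.ext h2)).symm⟩

theorem conjB_injective : Function.Injective P.conjB := by
  have hord : ∀ i j : ℕ, i < j → j < 2268 → key (cB i) < key (cB j) := by
    intro i j hij
    induction hij with
    | refl =>
      intro hj
      exact Nat.ble_eq.mp ((allFrom_iff _ _ _).1 ordB_all i (Nat.zero_le _) (by omega))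
    | @step m _ ih =>
      intro hj
      exact (ih (by omega)).trans
        (Nat.ble_eq.mp ((allFrom_iff _ _ _).1 ordB_all m (Nat.zero_le _) (by omega)))
  intro i j h
  have h' := P.key_of_eq _ _ (conjW_lt repB_lt (wB_lt i.2)) (conjW_lt repB_lt (wB_lt j.2))
    (congrArg Subtype.val h)
  rcases lt_trichotomy i.val j.val with hl | hl | hl
  · exact absurd h' (hord _ _ hl j.2).ne
  · exact Fin.ext hl
  · exact absurd h'.symm (hord _ _ hl i.2).ne

theorem card_classB [Finite Q] : 68796 ≤ Nat.card {s : Q // IsConj P.zb s} := by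
  classical
  have := Fintype.ofFinite Q
  let A := Σ s : {s : Q // IsConj P.zb s}, {p : Fin 819 // P.ρ s.1 p = p}
  let B := Σ p : Fin 819, {s : Q // IsConj P.zb s ∧ P.ρ s p = p}
  have e : A ≃ B :=
    { toFun := fun x => ⟨x.2.1, x.1.1, x.1.2, x.2.2⟩
      invFun := fun x => ⟨⟨x.2.1, x.2.2.1⟩, x.1, x.2.2.2⟩
      left_inv := fun _ => rfl
      right_inv := fun _ => rfl }
  have hA : Nat.card A = Nat.card {s : Q // IsConj P.zb s} * 27 := by
    rw [Nat.card_sigma, Finset.sum_congr rfl (fun s _ => (P.fix_conj s.2).trans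
      ((P.fixCount_eq repB repB_lt).trans fix_repB)), Finset.sum_const, Finset.card_univ,
      smul_eq_mul, Nat.card_eq_fintype_card]
  have hB : ∀ p : Fin 819, 2268 ≤ Nat.card {s : Q // IsConj P.zb s ∧ P.ρ s p = p} := by
    intro p
    have h := (allFrom_iff _ _ _).1 tr_all p (Nat.zero_le _) (by omega)
    simp only [checkTr, gate_eq, Bool.and_eq_true] at h
    obtain ⟨hok, hp⟩ := h
    set g := P.wordEl (decW (tr p))
    have hg : (P.ρ g)⁻¹ 1 = p := Fin.ext (by
      rw [P.apply_wordEl _ ((okW_iff _).1 hok)]; exact Nat.eq_of_beq_eq_true hp)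
    refine le_of_eq_of_le (Nat.card_fin 2268).symm (Nat.card_le_card_of_injective
      (fun i => (⟨g⁻¹ * (P.conjB i).1 * g, (P.conjB i).2.1.trans (isConj_iff.2 ⟨g⁻¹, by rw [inv_inv]⟩),
        ?_⟩ : {s : Q // IsConj P.zb s ∧ P.ρ s p = p})) ?_)
    · rw [map_mul, map_mul, map_inv, Equiv.Perm.mul_apply, Equiv.Perm.mul_apply,
        (Equiv.Perm.inv_eq_iff_eq.1 hg).symm, (P.conjB i).2.2, hg]
    · intro i j h
      have h' := congrArg Subtype.val h
      exact P.conjB_injective (Subtype.ext (mul_left_cancel (mul_right_cancel h')))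
  have hB' : 819 * 2268 ≤ Nat.card B := by
    rw [Nat.card_sigma]
    calc 819 * 2268 = ∑ _p : Fin 819, 2268 := by simp
      _ ≤ _ := Finset.sum_le_sum fun p _ => hB p
  rw [Nat.card_congr e] at hA
  omega

theorem classA_classB (s : Q) (h1 : IsConj P.za s) (h2 : IsConj P.zb s) : False := by
  have := (P.fix_conj h1).symm.trans (P.fix_conj h2)
  rw [show P.za = P.wordEl [0] by simp [za, wordEl], zb, P.fixCount_eq _ zero_lt,
    P.fixCount_eq _ repB_lt, fix_a, fix_repB] at this
  omega

theorem card_centralizer_za [Finite Q] (hQ : Nat.card Q = 634023936) :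
    Nat.card (centralizer ({P.za} : Set Q)) = 774144 := by
  have h := DCoset.FixCount.card_fixed_mul (Q := Q) (X := PUnit.{1}) PUnit.unit.{1} P.za
  have e1 : Nat.card {z : PUnit.{1} // z ∈ MulAction.orbit Q PUnit.unit.{1} ∧ P.za • z = z} = 1 := by
    rw [Nat.card_eq_one_iff_unique]
    exact ⟨⟨fun a b => Subtype.ext rfl⟩, ⟨⟨PUnit.unit, MulAction.mem_orbit_self _, rfl⟩⟩⟩
  have e2 : Nat.card (MulAction.stabilizer Q PUnit.unit.{1}) = Nat.card Q :=
    Nat.card_congr ((Equiv.subtypeUnivEquiv fun _ => rfl))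
  have e3 : Nat.card {s : Q // s ∈ MulAction.stabilizer Q PUnit.unit.{1} ∧ IsConj P.za s} = 819 :=
    (Nat.card_congr (Equiv.subtypeEquivRight fun s => ⟨fun h => h.2, fun h => ⟨rfl, h⟩⟩)).trans
      P.card_classA
  rw [e1, e2, e3, hQ] at h
  omega

theorem card_union [Finite Q] :
    69615 ≤ Nat.card {s : Q // IsConj P.za s ∨ IsConj P.zb s} := by
  classical
  rw [Nat.card_congr (subtypeOrEquiv _ _ fun f hfA hfB x hx =>
    P.classA_classB x (hfA x hx) (hfB x hx)), Nat.card_sum, P.card_classA]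
  have := P.card_classB
  omega

end Point

end Cfsg.Agent.ThCent
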