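import Cfsg.Agent.ThCent.Core
import Cfsg.Agent.ThCent.Point

/-!
The centraliser of `a` in a group with the configuration of Th is `2^(1+8).A₉`.
-/

set_option autoImplicit false
set_option maxRecDepth 100000

namespace Cfsg.Agent.ThCent

open Cfsg.Agent.CosetCert Subgroup

/-- The letters of the point group standing for `a, c, d, e, s, t`. -/
def pointLetter : Fin 6 → Fin 9 := ![0, 2, 3, 4, 5, 7]

/-- A word of the presented centraliser as a word in the letters of the point group. -/
def toPoint (l : List (Fin 7 × Bool)) : List Nat :=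
  l.map fun x => cond x.2
    ([0, 2, 3, 4, 5, 7, 0].getD x.1.val 0)
    (ivl ([0, 2, 3, 4, 5, 7, 0].getD x.1.val 0))

/-- The eight involutions as words in the letters of the point group. -/
def qList (i : Fin 8) : List Nat := conjW [2] (toPoint (qWord i))

/-- The configuration: the point group inside `G` with `u` outside it. -/
structure Cfg (G : Type*) [Group G] (Q : Type*) [Group Q] where
  P : Point Q
  ι : Q →* G
  ι_inj : Function.Injective ι
  card_Q : Nat.card Q = 634023936
  φ : PC →* G
  φ_low : ∀ i : Fin 6, φ (PresentedGroup.of i.castSucc) = ι (P.el (pointLetter i))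
  u_out : φ (PresentedGroup.of 6) ∉ ι.range
  fuse : IsConj (ι P.za) (ι P.zb)
  fix_le : Nat.card {z : G ⧸ ι.range // ι P.za • z = z} ≤ 10200

theorem pair_check : ∀ i j : Fin 8, i ≠ j →
    Nat.beq (key (qList i ++ qList j)) (key ([0] ++ (qList j ++ qList i))) = true := by
  decide +kernel

theorem comm_check : ∀ i : Fin 8,
    Nat.beq (key ([0] ++ qList i)) (key (qList i ++ [0])) = true := by
  decide +kernel

theorem low_check : ∀ g : Fin 6,
    Nat.beq (key [0, (pointLetter g).val]) (key [(pointLetter g).val, 0]) = true := by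
  decide +kernel

theorem qList_lt : ∀ i : Fin 8, ∀ g ∈ qList i, g < 9 := by decide +kernel

theorem qWord_low : ∀ i : Fin 8, ∀ x ∈ qWord i, x.1.val < 6 := by decide +kernel

theorem u_comm_a : [((6 : Fin 7), false), (0, false), (6, true), (0, true)] ∈ CPC.relWords := by
  decide +kernel

namespace Cfg

variable {G : Type*} [Group G] {Q : Type*} [Group Q] (S : Cfg G Q)

theorem φ_word : ∀ l : List (Fin 7 × Bool), (∀ x ∈ l, x.1.val < 6) →
    S.φ (PresentedGroup.mk _ (FreeGroup.mk l)) = S.ι (S.P.wordEl (toPoint l))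
  | [], _ => by
    show S.φ (PresentedGroup.mk _ 1) = _
    simp [toPoint, Point.wordEl]
  | (x, b) :: l, hl => by
    have ih := φ_word l fun y hy => hl y (List.mem_cons_of_mem _ hy)
    have hx : x.val < 6 := hl (x, b) List.mem_cons_self
    have hlow := S.φ_low ⟨x.val, hx⟩
    have ec : (⟨x.val, hx⟩ : Fin 6).castSucc = x := Fin.ext rfl
    rw [ec] at hlow
    have elt : Fin.ofNat 9 ([0, 2, 3, 4, 5, 7, 0].getD x.val 0) = pointLetter ⟨x.val, hx⟩ :=
      (show ∀ i : Fin 6, Fin.ofNat 9 ([0, 2, 3, 4, 5, 7, 0].getD i.val 0) = pointLetter i by decide)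
        ⟨x.val, hx⟩
    have e : FreeGroup.mk ((x, b) :: l) = FreeGroup.mk [(x, b)] * FreeGroup.mk l := by
      rw [FreeGroup.mul_mk]; rfl
    rw [e, map_mul, map_mul, ih]
    show _ = S.ι (S.P.wordEl (_ :: toPoint l))
    rw [show ∀ g, S.P.wordEl (g :: toPoint l) = S.P.el (Fin.ofNat 9 g) * S.P.wordEl (toPoint l) from
      fun g => by simp [Point.wordEl], map_mul]
    congr 1
    cases b
    · have hiv : Fin.ofNat 9 (ivl ([0, 2, 3, 4, 5, 7, 0].getD x.val 0)) =
          Fin.ofNat 9 (ivl (pointLetter ⟨x.val, hx⟩)) :=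
        (show ∀ i : Fin 6, Fin.ofNat 9 (ivl ([0, 2, 3, 4, 5, 7, 0].getD i.val 0)) =
          Fin.ofNat 9 (ivl (pointLetter i)) by decide) ⟨x.val, hx⟩
      simp only [cond_false]
      rw [hiv, S.P.el_inv, map_inv, ← hlow, ← map_inv S.φ]
      rfl
    · simp only [cond_true]
      rw [elt, ← hlow]
      rfl

theorem φ_qC (i : Fin 8) : S.φ (qC i) = S.ι (S.P.wordEl (qList i)) := by
  have hw : ∀ k ∈ toPoint (qWord i), k < 9 :=
    (show ∀ i : Fin 8, ∀ k ∈ toPoint (qWord i), k < 9 by decide +kernel) i
  rw [qC, qList, S.P.wordEl_conjW _ _ hw, map_mul, map_mul, map_inv, map_mul, map_mul, map_inv,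
    S.φ_word _ (qWord_low i)]
  congr 2
  rw [show (PresentedGroup.of 1 : PC) = PresentedGroup.of (1 : Fin 6).castSucc from rfl, S.φ_low]
  simp [Point.wordEl, pointLetter]

theorem φ_a : S.φ (PresentedGroup.of 0) = S.ι S.P.za := by
  rw [show (PresentedGroup.of 0 : PC) = PresentedGroup.of (0 : Fin 6).castSucc from rfl, S.φ_low]
  rfl

theorem za_ne : S.P.za ≠ 1 := by
  intro h
  have h2 := S.P.fixCount_eq [0] zero_lt
  have h3 : Nat.card {p : Fin 819 // (1 : Equiv.Perm (Fin 819)) p = p} = 819 :=
    (Nat.card_congr (Equiv.subtypeUnivEquiv fun _ => rfl)).trans (Nat.card_fin 819)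
  rw [show S.P.wordEl [0] = S.P.za by simp [Point.wordEl, Point.za], h, map_one, fix_a, h3] at h2
  omega

theorem za_sq : S.P.za * S.P.za = 1 := by
  have h := S.P.el_inv 0
  rw [show Fin.ofNat 9 (ivl (0 : Fin 9)) = 0 from rfl] at h
  exact mul_eq_one_iff_eq_inv.2 h

theorem range_le_centralizer : S.φ.range ≤ centralizer ({S.ι S.P.za} : Set G) := by
  rw [MonoidHom.range_eq_map, ← PresentedGroup.closure_range_of (wordRels CPC.relWords),
    Subgroup.map_le_iff_le_comap, Subgroup.closure_le]
  rintro _ ⟨i, rfl⟩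
  rw [SetLike.mem_coe, Subgroup.mem_comap, mem_centralizer_singleton_iff]
  rcases Fin.eq_castSucc_or_eq_last i with ⟨j, rfl⟩ | rfl
  · rw [S.φ_low, ← map_mul, ← map_mul]
    congr 1
    have h := S.P.eq_of_key [0, (pointLetter j).val] [(pointLetter j).val, 0]
      (by simp) (by simp) (Nat.eq_of_beq_eq_true (low_check j))
    simpa [Point.wordEl, Point.za] using h.symm
  · have h : (PresentedGroup.mk _ (FreeGroup.mk [((6 : Fin 7), false), (0, false), (6, true),
        (0, true)]) : PC) = 1 := PresentedGroup.one_of_mem (List.mem_map_of_mem u_comm_a)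
    have h' : (PresentedGroup.of 6 : PC)⁻¹ * (PresentedGroup.of 0)⁻¹ * PresentedGroup.of 6 *
        PresentedGroup.of 0 = 1 := by
      rw [← h]
      rfl
    rw [show (Fin.last 6 : Fin 7) = 6 from rfl, ← S.φ_a, ← map_mul, ← map_mul]
    congr 1
    calc (PresentedGroup.of 6 : PC) * PresentedGroup.of 0
        = PresentedGroup.of 0 * PresentedGroup.of 6 * ((PresentedGroup.of 6)⁻¹ *
            (PresentedGroup.of 0)⁻¹ * PresentedGroup.of 6 * PresentedGroup.of 0) := by group
      _ = _ := by rw [h', mul_one]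

theorem sub_map_le :
    (Data.sub (wordRels CPC.relWords) CPC.subWords).map S.φ ≤ S.ι.range := by
  rw [Data.sub, Subgroup.map_map, Subgroup.map_le_iff_le_comap, Subgroup.closure_le]
  intro s hs
  simp [CPC.subWords] at hs
  rw [SetLike.mem_coe, Subgroup.mem_comap, MonoidHom.comp_apply]
  rcases hs with rfl | rfl | rfl | rfl | rfl | rfl
  all_goals
    rw [S.φ_word _ (by decide)]
    exact ⟨_, rfl⟩

/-- The hypotheses on images hold for every map with the values of `φ`. -/
theorem image {C : Type*} [Group C] (f : PC →* C) (j : C →* G)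
    (hf : ∀ x, j (f x) = S.φ x) (hj : Function.Injective j) (hs : Function.Surjective f) : Image f where
  surj := hs
  ne h := S.za_ne (S.ι_inj (by rw [← S.φ_a, ← hf, h, map_one, map_one]))
  out h := by
    obtain ⟨x, hx, he⟩ := h
    exact S.u_out (S.sub_map_le ⟨x, hx, by rw [← hf, ← hf, he]⟩)
  comm i := hj (by
    rw [map_mul, map_mul, hf, hf, S.φ_a, S.φ_qC, ← map_mul, ← map_mul]
    congr 1
    have h := S.P.eq_of_key ([0] ++ qList i) (qList i ++ [0])
      (by simpa using qList_lt i) (by simpa [or_imp, forall_and] using qList_lt i)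
      (Nat.eq_of_beq_eq_true (comm_check i))
    simpa [Point.wordEl_append, Point.wordEl, Point.za] using h)
  pair i k hik := hj (by
    rw [map_mul, map_mul, map_mul, hf, hf, hf, S.φ_a, S.φ_qC, S.φ_qC, ← map_mul, ← map_mul,
      ← map_mul]
    congr 1
    have h := S.P.eq_of_key (qList i ++ qList k) ([0] ++ (qList k ++ qList i))
      (by simp [or_imp, forall_and]; exact ⟨qList_lt i, qList_lt k⟩)
      (by simp [or_imp, forall_and]; exact ⟨qList_lt k, qList_lt i⟩)
      (Nat.eq_of_beq_eq_true (pair_check i k hik))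
    simpa [Point.wordEl_append, Point.wordEl, Point.za, mul_assoc] using h)

variable [Finite G]

include S in
omit [Finite G] in
theorem finite_Q : Finite Q := Nat.finite_of_card_ne_zero (by rw [S.card_Q]; norm_num)

theorem card_centralizer_le :
    Nat.card (centralizer ({S.ι S.P.za} : Set G)) ≤ 92897280 := by
  classical
  have := S.finite_Q
  set C := centralizer ({S.ι S.P.za} : Set G)
  have h := DCoset.FixCount.card_fixed_mul (Q := G) (QuotientGroup.mk 1 : G ⧸ S.ι.range) (S.ι S.P.za)
  have e1 : Nat.card {z : G ⧸ S.ι.range // z ∈ MulAction.orbit G (QuotientGroup.mk 1 : G ⧸ S.ι.range) ∧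
      S.ι S.P.za • z = z} ≤ 10200 := by
    refine le_of_eq_of_le (Nat.card_congr (Equiv.subtypeEquivRight fun z => ?_)) S.fix_le
    exact ⟨fun h => h.2, fun h => ⟨MulAction.exists_smul_eq G _ z, h⟩⟩
  have hst : MulAction.stabilizer G (QuotientGroup.mk 1 : G ⧸ S.ι.range) = S.ι.range :=
    MulAction.stabilizer_quotient _
  rw [hst, Nat.card_congr (MonoidHom.ofInjective S.ι_inj).symm.toEquiv, S.card_Q] at h
  have e3 : 69615 ≤ Nat.card {s : G // s ∈ S.ι.range ∧ IsConj (S.ι S.P.za) s} := by
    refine S.P.card_union.trans (Nat.card_le_card_of_injective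
      (fun x => ⟨S.ι x.1, ⟨x.1, rfl⟩, ?_⟩) fun x y h => Subtype.ext (S.ι_inj (congrArg Subtype.val h)))
    rcases x.2 with hx | hx
    · exact MonoidHom.map_isConj S.ι hx
    · exact S.fuse.trans (MonoidHom.map_isConj S.ι hx)
  have h5 := Nat.mul_le_mul_right 634023936 e1
  have h6 := Nat.mul_le_mul_left (Nat.card C) e3
  have h7 : Nat.card C * 69615 ≤ 10200 * 634023936 := h6.trans (h ▸ h5)
  omega

/-- The centraliser of `a` is `2^(1+8).A₉`. -/
theorem structure_centralizer :
    orderOf (S.ι S.P.za) = 2 ∧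
      ∃ (Q' : Subgroup (centralizer ({S.ι S.P.za} : Set G))) (_ : Q'.Normal),
        Nat.card Q' = 2 ^ 9 ∧ Cfsg.IsExtraspecial 2 Q' ∧
        Nonempty ((centralizer ({S.ι S.P.za} : Set G)) ⧸ Q' ≃* alternatingGroup (Fin 9)) := by
  refine ⟨orderOf_eq_prime (by rw [sq, ← map_mul, S.za_sq, map_one])
    (fun h => S.za_ne (S.ι_inj (h.trans (map_one _).symm))), ?_⟩
  set C := centralizer ({S.ι S.P.za} : Set G) with hC
  let f : PC →* C := S.φ.codRestrict C fun x => S.range_le_centralizer ⟨x, rfl⟩
  have hle := S.card_centralizer_le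
  have hR : 92897280 ≤ Nat.card f.range := card_ge (S.image f.rangeRestrict
    (C.subtype.comp f.range.subtype) (fun x => rfl)
    (C.subtype_injective.comp f.range.subtype_injective) f.rangeRestrict_surjective)
  have hs : Function.Surjective f := by
    rw [← MonoidHom.range_eq_top]
    exact Subgroup.eq_top_of_card_eq _ (le_antisymm (Subgroup.card_le_card_group _) (hle.trans hR))
  exact exact_case (S.image f C.subtype (fun x => rfl) C.subtype_injective hs) hle

end Cfg

end Cfsg.Agent.ThCent
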