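import Cfsg.Agent.ThCent.CPC.Main
import Cfsg.Agent.ThCent.CPA.Main
import Cfsg.Agent.ThCent.CPD.Main

/-!
# The presented involution centraliser of Th and its quotient `A₉`

Generators `a, c, d, e, s, t, u` are numbered `0, …, 6`.
-/

set_option autoImplicit false
set_option maxRecDepth 100000

namespace Cfsg.Agent.ThCent

open Cfsg.Agent.CosetCert Subgroup

/-- The presented centraliser. -/
abbrev PC : Type := PresentedGroup (wordRels CPC.relWords)

/-- The same with `a = c = 1`. -/
abbrev PA : Type := PresentedGroup (wordRels CPA.relWords)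

/-- The presented point group `L₂(8):3`. -/
abbrev PD : Type := PresentedGroup (wordRels CPD.relWords)

theorem rel_one {n : ℕ} {RL : List (List (Fin n × Bool))} {H : Type*} [Group H] {f : Fin n → H}
    (h : ∀ l ∈ RL, FreeGroup.lift f (FreeGroup.mk l) = 1) :
    ∀ r ∈ wordRels RL, FreeGroup.lift f r = 1 := by
  rintro r hr
  obtain ⟨l, hl, rfl⟩ := List.mem_map.1 hr
  exact h l hl

/-- The seven permutations of nine points. -/
def perm9 (i : Fin 7) : Equiv.Perm (Fin 9) :=
  match i with
  | ⟨2, _⟩ => ⟨![1, 0, 4, 5, 2, 3, 6, 8, 7], ![1, 0, 4, 5, 2, 3, 6, 8, 7], by decide, by decide⟩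
  | ⟨3, _⟩ => ⟨![2, 3, 0, 1, 5, 4, 7, 6, 8], ![2, 3, 0, 1, 5, 4, 7, 6, 8], by decide, by decide⟩
  | ⟨4, _⟩ => ⟨![2, 5, 4, 0, 1, 6, 3, 7, 8], ![3, 4, 0, 6, 2, 1, 5, 7, 8], by decide, by decide⟩
  | ⟨5, _⟩ => ⟨![3, 5, 1, 4, 0, 2, 6, 7, 8], ![4, 2, 5, 0, 3, 1, 6, 7, 8], by decide, by decide⟩
  | ⟨6, _⟩ => ⟨![0, 5, 2, 4, 3, 1, 6, 7, 8], ![0, 5, 2, 4, 3, 1, 6, 7, 8], by decide, by decide⟩
  | _ => 1

theorem perm9_rels : ∀ l ∈ CPA.relWords, FreeGroup.lift perm9 (FreeGroup.mk l) = 1 := by
  simp only [FreeGroup.lift_mk]
  decide +kernel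

theorem perm9_even : ∀ i, Equiv.Perm.sign (perm9 i) = 1 := by decide +kernel

/-- The action of `PA` on nine points. -/
noncomputable def phiA : PA →* Equiv.Perm (Fin 9) :=
  PresentedGroup.toGroup (rel_one perm9_rels)

theorem phiA_mk (l : List (Fin 7 × Bool)) :
    phiA (PresentedGroup.mk _ (FreeGroup.mk l)) = FreeGroup.lift perm9 (FreeGroup.mk l) := by
  have h : phiA.comp (PresentedGroup.mk _) = FreeGroup.lift perm9 := by
    apply FreeGroup.ext_hom
    intro b
    simp only [MonoidHom.comp_apply, FreeGroup.lift_apply_of]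
    exact PresentedGroup.toGroup.of (rel_one perm9_rels)
  rw [← h, MonoidHom.comp_apply]

theorem phiA_range_le : phiA.range ≤ alternatingGroup (Fin 9) := by
  rw [MonoidHom.range_eq_map, ← PresentedGroup.closure_range_of (wordRels CPA.relWords),
    Subgroup.map_le_iff_le_comap, Subgroup.closure_le]
  rintro _ ⟨i, rfl⟩
  rw [SetLike.mem_coe, Subgroup.mem_comap, Equiv.Perm.mem_alternatingGroup]
  have : phiA (PresentedGroup.of i) = perm9 i := PresentedGroup.toGroup.of (rel_one perm9_rels)
  rw [this]
  exact perm9_even i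

/-- A transposition of the base point. -/
def star (i : Fin 9) : Equiv.Perm (Fin 9) := Equiv.swap 0 i

/-- Words for the products of `star i` and `star 1`. -/
def starWord : List (List (Fin 7 × Bool)) := [
  [(4, true), (6, true), (2, true), (5, true), (6, true), (4, true), (2, true)],
  [(2, true), (6, true), (4, true), (6, true), (2, true), (5, true), (6, true), (4, true), (6, true), (5, true)],
  [(2, true), (4, true), (2, true), (5, true), (6, true), (2, true), (6, true), (2, true), (4, true)],
  [(2, true), (4, true), (4, true), (6, true), (2, true), (5, true), (4, true), (6, true), (5, true), (4, true)],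
  [(4, true), (4, true), (6, true), (2, true), (4, true), (6, true), (2, true), (4, true), (4, true)],
  [(2, true), (4, true), (6, true), (4, true), (2, true), (3, true), (4, true), (4, true), (6, true), (5, true)],
  [(2, true), (3, true), (2, true), (4, true), (5, true), (6, true), (2, true), (6, true), (4, true), (3, true), (2, true)]]

/-- A subgroup containing the products of two star transpositions contains the alternating group. -/
theorem alt_le {S : Subgroup (Equiv.Perm (Fin 9))}
    (h : ∀ i, i ≠ 0 → star i * star 1 ∈ S) : alternatingGroup (Fin 9) ≤ S := by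
  have h' : ∀ i, i ≠ 0 → star 1 * star i ∈ S := fun i hi => by
    have := inv_mem (h i hi)
    simpa [star, mul_inv_rev] using this
  have key : ∀ σ : Equiv.Perm (Fin 9), (Equiv.Perm.sign σ = 1 ∧ σ ∈ S) ∨
      (Equiv.Perm.sign σ = -1 ∧ σ * star 1 ∈ S) := by
    have hsgn : ∀ i, i ≠ 0 → Equiv.Perm.sign (star i) = -1 := fun i hi =>
      Equiv.Perm.sign_swap (Ne.symm hi)
    let T : Submonoid (Equiv.Perm (Fin 9)) :=
      { carrier := {σ | (Equiv.Perm.sign σ = 1 ∧ σ ∈ S ∧ star 1 * σ * star 1 ∈ S) ∨
          (Equiv.Perm.sign σ = -1 ∧ σ * star 1 ∈ S ∧ star 1 * σ ∈ S)}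
        one_mem' := Or.inl ⟨map_one _, one_mem S, by simp [star]⟩
        mul_mem' := by
          have hss : star 1 * star 1 = 1 := Equiv.swap_mul_self 0 1
          rintro a b (⟨sa, a1, a2⟩ | ⟨sa, a1, a2⟩) (⟨sb, b1, b2⟩ | ⟨sb, b1, b2⟩)
          · refine Or.inl ⟨by rw [map_mul, sa, sb, one_mul], mul_mem a1 b1, ?_⟩
            have := mul_mem a2 b2
            rwa [show star 1 * a * star 1 * (star 1 * b * star 1) = star 1 * (a * b) * star 1 by
              simp only [mul_assoc]; rw [← mul_assoc (star 1) (star 1) (b * star 1), hss, one_mul]]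
              at this
          · refine Or.inr ⟨by rw [map_mul, sa, sb, one_mul], ?_, ?_⟩
            · rw [mul_assoc]; exact mul_mem a1 b1
            · have := mul_mem a2 b2
              rwa [show star 1 * a * star 1 * (star 1 * b) = star 1 * (a * b) by
                simp only [mul_assoc]; rw [← mul_assoc (star 1) (star 1) b, hss, one_mul]] at this
          · refine Or.inr ⟨by rw [map_mul, sa, sb, mul_one], ?_, ?_⟩
            · have := mul_mem a1 b2
              rwa [show a * star 1 * (star 1 * b * star 1) = a * b * star 1 by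
                simp only [mul_assoc]; rw [← mul_assoc (star 1) (star 1) (b * star 1), hss, one_mul]]
                at this
            · rw [← mul_assoc]; exact mul_mem a2 b1
          · refine Or.inl ⟨by rw [map_mul, sa, sb]; decide, ?_, ?_⟩
            · have := mul_mem a1 b2
              rwa [show a * star 1 * (star 1 * b) = a * b by
                simp only [mul_assoc]; rw [← mul_assoc (star 1) (star 1) b, hss, one_mul]] at this
            · have := mul_mem a2 b1
              rwa [show star 1 * a * (b * star 1) = star 1 * (a * b) * star 1 by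
                simp only [mul_assoc]] at this }
    have hstar : ∀ i, i ≠ 0 → star i ∈ T := fun i hi => Or.inr ⟨hsgn i hi, h i hi, h' i hi⟩
    intro σ
    have hσ : σ ∈ T := by
      induction σ using Equiv.Perm.swap_induction_on with
      | one => exact T.one_mem
      | swap_mul f x y hxy ih =>
        refine T.mul_mem ?_ ih
        by_cases hx : x = 0
        · subst hx; exact hstar y (Ne.symm hxy)
        by_cases hy : y = 0
        · subst hy; rw [Equiv.swap_comm]; exact hstar x hxy
        have e : Equiv.swap x y = star x * star y * star x := by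
          rw [show star x * star y * star x = Equiv.swap (star x 0) (star x y) by
            rw [Equiv.swap_apply_apply]; simp [star]]
          simp [star, Equiv.swap_apply_of_ne_of_ne hy (Ne.symm hxy)]
        rw [e]
        exact T.mul_mem (T.mul_mem (hstar x hx) (hstar y hy)) (hstar x hx)
    rcases hσ with ⟨a, b, -⟩ | ⟨a, b, -⟩
    exacts [Or.inl ⟨a, b⟩, Or.inr ⟨a, b⟩]
  intro σ hσ
  rcases key σ with ⟨-, h1⟩ | ⟨h1, -⟩
  · exact h1
  · rw [Equiv.Perm.mem_alternatingGroup.1 hσ] at h1
    exact absurd h1 (by decide)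

theorem starWord_spec : ∀ i : Fin 9, i = 0 ∨ i = 1 ∨ ∃ w ∈ starWord,
    FreeGroup.lift perm9 (FreeGroup.mk w) = star i * star 1 ∨
      FreeGroup.lift perm9 (FreeGroup.mk w) = star 1 * star i := by
  simp only [FreeGroup.lift_mk]
  decide +kernel

theorem phiA_range : phiA.range = alternatingGroup (Fin 9) := by
  refine le_antisymm phiA_range_le (alt_le fun i hi => ?_)
  rcases starWord_spec i with h | h | ⟨w, -, h⟩
  · exact absurd h hi
  · subst h
    rw [star, Equiv.swap_mul_self]
    exact one_mem _
  · have hm : phiA (PresentedGroup.mk _ (FreeGroup.mk w)) ∈ phiA.range := ⟨_, rfl⟩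
    rw [phiA_mk] at hm
    rcases h with h | h
    · exact h ▸ hm
    · have := inv_mem (h ▸ hm)
      simpa [star, mul_inv_rev] using this

end Cfsg.Agent.ThCent
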