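import Cfsg.Agent.Fusion.Critical
import Cfsg.Agent.Core.Frattini
import Cfsg.Prelude.Def_Transfer

/-!
# Eight involutions, any two of which have the same central commutator

They generate an extraspecial group of order `2 ^ 9`.
-/

set_option autoImplicit false

namespace Cfsg.Agent.ThCent

open Subgroup
open scoped commutatorElement

variable {G : Type*} [Group G]

/-- The hypotheses: `z` is a central involution, the `q i` are involutions generating with `z`,
and two of them differ from commuting by `z`. -/
structure Eight (z : G) (q : Fin 8 → G) : Prop where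
  ne : z ≠ 1
  sq : z * z = 1
  comm : ∀ i, z * q i = q i * z
  qsq : ∀ i, q i * q i = 1
  pair : ∀ i j, i ≠ j → q i * q j = z * (q j * q i)
  gen : closure (insert z (Set.range q)) = ⊤

namespace Eight

variable {z : G} {q : Fin 8 → G} (E : Eight z q)

include E in
theorem central (g : G) : g * z = z * g := by
  have h : closure (insert z (Set.range q)) ≤ centralizer ({z} : Set G) := by
    rw [closure_le]
    rintro x (rfl | ⟨i, rfl⟩) <;> rw [SetLike.mem_coe, mem_centralizer_singleton_iff]
    exact (E.comm i).symm
  exact mem_centralizer_singleton_iff.1 (h (E.gen ▸ mem_top g))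

include E in
theorem zpowers_le_center : zpowers z ≤ center G := by
  rw [zpowers_le, mem_center_iff]
  exact E.central

include E in
theorem orderOf_z : orderOf z = 2 := orderOf_eq_prime (by rw [_root_.sq, E.sq]) E.ne

include E in
theorem mem_or {x : G} (hx : x ∈ zpowers z) : x = 1 ∨ x = z := by
  obtain ⟨k, rfl⟩ := mem_zpowers_iff.1 hx
  rcases Int.even_or_odd k with ⟨m, rfl⟩ | ⟨m, rfl⟩
  · left
    rw [← two_mul, zpow_mul, zpow_two, E.sq, one_zpow]
  · right
    rw [zpow_add, zpow_mul, zpow_two, E.sq, one_zpow, one_mul, zpow_one]

include E in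
theorem normal : (zpowers z).Normal :=
  ⟨fun x hx g => by
    rw [mem_center_iff.1 (E.zpowers_le_center hx) g, mul_inv_cancel_right]
    exact hx⟩

include E in
theorem quot_gen [hn : (zpowers z).Normal] (x : G ⧸ zpowers z) :
    x ∈ closure (Set.range fun i => QuotientGroup.mk' (zpowers z) (q i)) := by
  obtain ⟨g, rfl⟩ := QuotientGroup.mk'_surjective (zpowers z) x
  have h : closure (insert z (Set.range q)) ≤ (closure
      (Set.range fun i => QuotientGroup.mk' (zpowers z) (q i))).comap (QuotientGroup.mk' _) := by
    rw [closure_le]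
    rintro x (rfl | ⟨i, rfl⟩)
    · rw [SetLike.mem_coe, mem_comap]
      rw [QuotientGroup.mk'_apply, (QuotientGroup.eq_one_iff x).2 (mem_zpowers x)]
      exact one_mem _
    · exact subset_closure ⟨i, rfl⟩
  exact h (E.gen ▸ mem_top g)

include E in
theorem quot_comm [hn : (zpowers z).Normal] : ∀ a b : G ⧸ zpowers z, a * b = b * a := by
  have hgen : ∀ i j, QuotientGroup.mk' (zpowers z) (q i) * QuotientGroup.mk' _ (q j) =
      QuotientGroup.mk' _ (q j) * QuotientGroup.mk' _ (q i) := by
    intro i j
    by_cases hij : i = j
    · rw [hij]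
    · have hz1 : QuotientGroup.mk' (zpowers z) z = 1 := by
        rw [QuotientGroup.mk'_apply, (QuotientGroup.eq_one_iff z).2 (mem_zpowers z)]
      rw [← map_mul, ← map_mul, E.pair i j hij, map_mul _ z, hz1, one_mul]
  intro a b
  induction E.quot_gen a using closure_induction with
  | mem x hx =>
    obtain ⟨i, rfl⟩ := hx
    induction E.quot_gen b using closure_induction with
    | mem y hy => obtain ⟨j, rfl⟩ := hy; exact hgen i j
    | one => simp
    | mul u v _ _ hu hv => exact (Commute.mul_right hu hv)
    | inv u _ hu => exact (Commute.inv_right hu)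
  | one => simp
  | mul u v _ _ hu hv => exact (Commute.mul_left hu hv)
  | inv u _ hu => exact (Commute.inv_left hu)

include E in
theorem sq_mem (g : G) : g ^ 2 ∈ zpowers z := by
  have hn := E.normal
  have : ∀ x : G ⧸ zpowers z, x ^ 2 = 1 := by
    intro x
    induction E.quot_gen x using closure_induction with
    | mem y hy =>
      obtain ⟨i, rfl⟩ := hy
      show (QuotientGroup.mk' (zpowers z) (q i)) ^ 2 = 1
      rw [← map_pow, _root_.sq, E.qsq, map_one]
    | one => simp
    | mul u v _ _ hu hv => rw [(show Commute u v from E.quot_comm u v).mul_pow, hu, hv, one_mul]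
    | inv u _ hu => rw [inv_pow, hu, inv_one]
  have h := this (QuotientGroup.mk' _ g)
  rwa [← map_pow, QuotientGroup.mk'_apply, QuotientGroup.eq_one_iff] at h

include E in
theorem commutator_mem (g h : G) : g * h * g⁻¹ * h⁻¹ ∈ zpowers z := by
  have hn := E.normal
  rw [← QuotientGroup.eq_one_iff]
  rw [QuotientGroup.mk_mul, QuotientGroup.mk_mul, QuotientGroup.mk_mul,
    E.quot_comm (g : G ⧸ zpowers z) h, QuotientGroup.mk_inv, QuotientGroup.mk_inv,
    mul_inv_cancel_right, mul_inv_cancel]

open Classical in
/-- Which of the eight involutions fail to commute with an element. -/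
noncomputable def form (g : G) : Multiplicative (Fin 8 → ZMod 2) :=
  Multiplicative.ofAdd fun i => if g * q i = q i * g then 0 else 1

include E in
theorem twist (g : G) (i : Fin 8) : g * q i = q i * g ∨ g * q i = z * (q i * g) := by
  rcases E.mem_or (E.commutator_mem g (q i)) with h | h
  · left
    calc g * q i = (g * q i * g⁻¹ * (q i)⁻¹) * (q i * g) := by group
      _ = q i * g := by rw [h, one_mul]
  · right
    calc g * q i = (g * q i * g⁻¹ * (q i)⁻¹) * (q i * g) := by group
      _ = z * (q i * g) := by rw [h]

include E in
theorem twist_ne (g : G) (i : Fin 8) : z * (q i * g) ≠ q i * g := fun h => E.ne (mul_eq_right.1 h)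

include E in
theorem form_mul (g h : G) :
    form (q := q) (g * h) = form (q := q) g * form (q := q) h := by
  classical
  apply Multiplicative.toAdd.injective
  funext i
  show (if g * h * q i = q i * (g * h) then (0 : ZMod 2) else 1) =
    (if g * q i = q i * g then 0 else 1) + if h * q i = q i * h then 0 else 1
  rcases E.twist g i with hg | hg <;> rcases E.twist h i with hh | hh
  · have : g * h * q i = q i * (g * h) := by rw [mul_assoc, hh, ← mul_assoc, hg, mul_assoc]
    rw [if_pos this, if_pos hg, if_pos hh, add_zero]
  · have : g * h * q i = z * (q i * (g * h)) := by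
      rw [mul_assoc, hh, ← mul_assoc, E.central g, mul_assoc, ← mul_assoc g, hg, mul_assoc (q i)]
    rw [if_neg (this ▸ E.twist_ne (g * h) i), if_pos hg, if_neg (hh ▸ E.twist_ne h i), zero_add]
  · have : g * h * q i = z * (q i * (g * h)) := by
      rw [mul_assoc, hh, ← mul_assoc, hg]; group
    rw [if_neg (this ▸ E.twist_ne (g * h) i), if_neg (hg ▸ E.twist_ne g i), if_pos hh, add_zero]
  · have : g * h * q i = q i * (g * h) := by
      rw [mul_assoc, hh, ← mul_assoc, E.central g, mul_assoc, ← mul_assoc g, hg]
      simp only [← mul_assoc, E.sq, one_mul]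
    rw [if_pos this, if_neg (hg ▸ E.twist_ne g i), if_neg (hh ▸ E.twist_ne h i)]
    decide

/-- The pairing with the eight involutions. -/
noncomputable def formHom : G →* Multiplicative (Fin 8 → ZMod 2) :=
  MonoidHom.mk' (form (q := q)) E.form_mul

include E in
theorem formHom_q (j : Fin 8) :
    Multiplicative.toAdd (E.formHom (q j)) = fun i => if i = j then 0 else 1 := by
  classical
  funext i
  show (if q j * q i = q i * q j then (0 : ZMod 2) else 1) = _
  by_cases h : i = j
  · rw [if_pos h, if_pos (by rw [h])]
  · rw [if_neg h, if_neg]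
    rw [E.pair j i (Ne.symm h)]
    exact fun e => E.ne (mul_eq_right.1 e)

include E in
theorem formHom_surj : Function.Surjective E.formHom := by
  intro v
  let f : Fin 8 → G := fun j => if Multiplicative.toAdd v j + ∑ i, Multiplicative.toAdd v i = 1 then q j else 1
  refine ⟨(List.ofFn f).prod, ?_⟩
  apply Multiplicative.toAdd.injective
  rw [map_list_prod, List.map_ofFn, List.prod_ofFn, toAdd_prod]
  have hf : ∀ j, Multiplicative.toAdd ((E.formHom ∘ f) j) =
      if Multiplicative.toAdd v j + ∑ i, Multiplicative.toAdd v i = 1 then
        (fun i => if i = j then (0 : ZMod 2) else 1) else 0 := by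
    intro j
    simp only [Function.comp_apply, f]
    split_ifs
    · exact E.formHom_q j
    · simp
  rw [Finset.sum_congr rfl fun j _ => hf j]
  generalize Multiplicative.toAdd v = w
  revert w
  decide +kernel

include E in
theorem zpowers_le_ker : zpowers z ≤ E.formHom.ker := by
  classical
  refine zpowers_le.2 (MonoidHom.mem_ker.2 ?_)
  apply Multiplicative.toAdd.injective
  funext i
  show (if z * q i = q i * z then (0 : ZMod 2) else 1) = _
  rw [if_pos (E.comm i)]
  rfl

include E in
theorem card_ge [Finite G] : 512 ≤ Nat.card G := by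
  have h := Subgroup.card_eq_card_quotient_mul_card_subgroup E.formHom.ker
  have h1 : Nat.card (G ⧸ E.formHom.ker) = 256 := by
    rw [Nat.card_congr (QuotientGroup.quotientKerEquivOfSurjective _ E.formHom_surj).toEquiv]
    simp [Nat.card_eq_fintype_card]
  have h2 : 2 ≤ Nat.card E.formHom.ker := by
    refine le_of_eq_of_le (E.orderOf_z.symm.trans (Nat.card_zpowers z).symm) ?_
    exact Subgroup.card_le_of_le E.zpowers_le_ker
  rw [h, h1]
  omega

include E in
theorem isExtraspecial [Finite G] (hcard : Nat.card G ≤ 512) :
    Nat.card G = 512 ∧ Cfsg.IsExtraspecial 2 G := by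
  classical
  have hG : Nat.card G = 512 := le_antisymm hcard E.card_ge
  have : Fact (Nat.Prime 2) := ⟨Nat.prime_two⟩
  have hp : IsPGroup 2 G := IsPGroup.of_card (n := 9) (by rw [hG]; norm_num)
  have : Group.IsNilpotent G := hp.isNilpotent
  have hker : E.formHom.ker = zpowers z := by
    have h := Subgroup.card_eq_card_quotient_mul_card_subgroup E.formHom.ker
    rw [Nat.card_congr (QuotientGroup.quotientKerEquivOfSurjective _ E.formHom_surj).toEquiv,
      hG] at h
    rw [show Nat.card (Multiplicative (Fin 8 → ZMod 2)) = 256 by simp [Nat.card_eq_fintype_card]] at h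
    refine (Subgroup.eq_of_le_of_card_ge E.zpowers_le_ker ?_).symm
    rw [Nat.card_zpowers, E.orderOf_z]
    omega
  have hcen : center G = zpowers z := by
    refine le_antisymm (fun x hx => hker ▸ ?_) E.zpowers_le_center
    apply Multiplicative.toAdd.injective
    funext i
    show (if x * q i = q i * x then (0 : ZMod 2) else 1) = _
    rw [if_pos (mem_center_iff.1 hx (q i)).symm]
    rfl
  have hn := E.normal
  have hcle : commutator G ≤ zpowers z := by
    rw [_root_.commutator_def, commutator_le]
    exact fun g _ h _ => E.commutator_mem g h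
  have hzc : z ∈ commutator G := by
    have e : z = ⁅q 0, q 1⁆ := by
      rw [commutatorElement_def, E.pair 0 1 (by decide)]
      group
    rw [e, _root_.commutator_def]
    exact commutator_mem_commutator (mem_top _) (mem_top _)
  have hcom : commutator G = center G := by
    rw [hcen]
    exact le_antisymm hcle (zpowers_le.2 hzc)
  refine ⟨hG, ⟨hp, ?_, hcom⟩, ?_⟩
  · refine le_antisymm ?_ (hcom ▸ Core.commutator_le_frattini)
    rw [hcen]
    exact Fusion.frattini_le_of_elementary (p := 2) _ hcle E.sq_mem
  · rw [hcen, Nat.card_zpowers, E.orderOf_z]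

end Eight

end Cfsg.Agent.ThCent
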