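import Cfsg.Agent.ThCent.Basic
import Cfsg.Agent.ThCent.Extra

/-!
# A group which is an image of the presented centraliser

If the image is not swallowed by the image of `⟨a, c, d, e, s, t⟩` and contains the eight
involutions `c ^ w`, it has order at least `2 ^ 9 · 181440`, and when it has exactly this order
it is `2^(1+8).A₉`.
-/

set_option autoImplicit false
set_option maxRecDepth 100000

namespace Cfsg.Agent.ThCent

open Cfsg.Agent.CosetCert Subgroup

theorem card_PD : Nat.card PD = 1512 ∧ Finite PD := by
  have h : (Data.sub (wordRels CPD.relWords) CPD.subWords).index = 1512 := CPD.index_val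
  have hb : Data.sub (wordRels CPD.relWords) CPD.subWords = ⊥ := by
    simp [Data.sub, CPD.subWords]
  rw [hb, Subgroup.index_bot] at h
  exact ⟨h, Nat.finite_of_card_ne_zero (by rw [h]; norm_num)⟩

/-- The generators `d, e, s, t` of `PA`. -/
def destIdx (i : Fin 4) : Fin 7 := ⟨i.val + 2, by omega⟩

theorem PD_rels_in_PA : ∀ l ∈ CPD.relWords,
    (l.map fun x => (destIdx x.1, x.2)) ∈ CPA.relWords := by decide +kernel

/-- The point group inside `PA`. -/
noncomputable def PDtoPA : PD →* PA :=
  PresentedGroup.toGroup (f := fun i => (PresentedGroup.of (destIdx i) : PA)) (rel_one fun l hl => by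
    have h : FreeGroup.lift (fun i => (PresentedGroup.of (destIdx i) : PA)) (FreeGroup.mk l) =
        PresentedGroup.mk _ (FreeGroup.mk (l.map fun x => (destIdx x.1, x.2))) := by
      have e : FreeGroup.lift (fun i => (PresentedGroup.of (destIdx i) : PA)) =
          (PresentedGroup.mk _).comp (FreeGroup.map destIdx) := by
        apply FreeGroup.ext_hom; intro b; simp [PresentedGroup.of]
      rw [e, MonoidHom.comp_apply, FreeGroup.map.mk]
    rw [h]
    exact PresentedGroup.one_of_mem (List.mem_map_of_mem (PD_rels_in_PA l hl)))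

theorem PDtoPA_of (i : Fin 4) : PDtoPA (PresentedGroup.of i) = PresentedGroup.of (destIdx i) := by
  simp [PDtoPA]

theorem card_PA : Nat.card PA ≤ 181440 ∧ Finite PA := by
  have hsub : Data.sub (wordRels CPA.relWords) CPA.subWords ≤ PDtoPA.range := by
    rw [Data.sub, Subgroup.map_le_iff_le_comap, Subgroup.closure_le]
    intro s hs
    simp [CPA.subWords] at hs
    rcases hs with rfl | rfl | rfl | rfl
    · exact ⟨PresentedGroup.of 0, PDtoPA_of 0⟩
    · exact ⟨PresentedGroup.of 1, PDtoPA_of 1⟩
    · exact ⟨PresentedGroup.of 2, PDtoPA_of 2⟩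
    · exact ⟨PresentedGroup.of 3, PDtoPA_of 3⟩
  have := card_PD.2
  have hr : Finite PDtoPA.range := Finite.of_surjective _ PDtoPA.rangeRestrict_surjective
  have hf : Finite (Data.sub (wordRels CPA.relWords) CPA.subWords) :=
    Finite.of_injective _ (Subgroup.inclusion_injective hsub)
  have hle : Nat.card (Data.sub (wordRels CPA.relWords) CPA.subWords) ≤ 1512 :=
    (Subgroup.card_le_of_le hsub).trans (card_PD.1 ▸
      Nat.card_le_card_of_surjective _ PDtoPA.rangeRestrict_surjective)
  have h : Nat.card (Data.sub (wordRels CPA.relWords) CPA.subWords) * 120 = Nat.card PA := by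
    rw [← CPA.index_val, Subgroup.card_mul_index]
  have hpos : 0 < Nat.card (Data.sub (wordRels CPA.relWords) CPA.subWords) := Nat.card_pos
  exact ⟨by omega, Nat.finite_of_card_ne_zero (by omega)⟩

theorem card_alt9 : Nat.card (alternatingGroup (Fin 9)) = 181440 := by
  rw [nat_card_alternatingGroup]
  simp [Nat.card_eq_fintype_card, Nat.factorial]

theorem phiA_injective : Function.Injective phiA := by
  have := card_PA.2
  have h1 : Nat.card phiA.range = 181440 := by rw [phiA_range, card_alt9]
  have h2 := Subgroup.card_eq_card_quotient_mul_card_subgroup phiA.ker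
  rw [Nat.card_congr (QuotientGroup.quotientKerEquivRange phiA).toEquiv, h1] at h2
  have h3 := card_PA.1
  have h4 : 0 < Nat.card phiA.ker := Nat.card_pos
  rw [← MonoidHom.ker_eq_bot_iff, ← Subgroup.card_eq_one]
  nlinarith

/-- `PA` is the alternating group of degree nine. -/
noncomputable def isoA9 : PA ≃* alternatingGroup (Fin 9) :=
  (MonoidHom.ofInjective phiA_injective).trans (MulEquiv.subgroupCongr phiA_range)

/-- The normal closure of `a` and `c`. -/
def K : Subgroup PC := normalClosure {PresentedGroup.of 0, PresentedGroup.of 1}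

theorem K_le_sub : K ≤ Data.sub (wordRels CPC.relWords) CPC.subWords := by
  obtain ⟨φ, π, hπ, hfwd⟩ := Data.enumeration CPC.valid CPC.spells
  have hfix : ∀ i : Fin 7, i.val < 2 → (PresentedGroup.of i : PC) ∈ φ.ker := by
    intro i hi
    rw [MonoidHom.mem_ker]
    apply inv_injective
    refine Equiv.ext fun c => Fin.ext ?_
    rw [inv_one, Equiv.Perm.one_apply,
      show (PresentedGroup.of i : PC) = PresentedGroup.mk _ (FreeGroup.mk [(i, true)]) from rfl, hfwd]
    exact (show ∀ i : Fin 7, i.val < 2 → ∀ c : Fin 120, CPC.data.fwd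
      ([(i, true)].map (Data.code CPC.data.iv CPC.enc)) c = c.val by decide +kernel) i hi c
  have hle : K ≤ φ.ker := by
    refine normalClosure_le_normal ?_
    rintro x (rfl | rfl)
    exacts [hfix 0 (by decide), hfix 1 (by decide)]
  intro x hx
  have h := hπ x (π.symm (QuotientGroup.mk 1))
  rw [MonoidHom.mem_ker.1 (hle hx), Equiv.Perm.one_apply, Equiv.apply_symm_apply] at h
  have h' := h.symm
  rw [MulAction.Quotient.smul_mk, smul_eq_mul, mul_one] at h'
  have := QuotientGroup.eq.1 h'.symm
  simpa using this

/-- The words conjugating `c` to the eight involutions. -/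
def qWord : Fin 8 → List (Fin 7 × Bool) :=
  ![[], [(2, true)], [(2, true), (3, true)], [(2, true), (3, true), (4, true)],
    [(2, true), (3, true), (4, false)], [(2, true), (3, true), (4, true), (3, true)],
    [(2, true), (3, true), (4, true), (4, true)], [(2, true), (3, true), (4, false), (4, false)]]

/-- The eight involutions in the presented group. -/
def qC (i : Fin 8) : PC :=
  (PresentedGroup.mk _ (FreeGroup.mk (qWord i)))⁻¹ * PresentedGroup.of 1 *
    PresentedGroup.mk _ (FreeGroup.mk (qWord i))

theorem qC_mem (i : Fin 8) : qC i ∈ K := by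
  have h := (normalClosure_normal (s := {(PresentedGroup.of 0 : PC), PresentedGroup.of 1})).conj_mem
    _ (subset_normalClosure (Or.inr rfl)) (PresentedGroup.mk _ (FreeGroup.mk (qWord i)))⁻¹
  rwa [inv_inv] at h

section image

variable {C : Type*} [Group C] (f : PC →* C)

/-- The hypotheses on an image of the presented centraliser. -/
structure Image : Prop where
  surj : Function.Surjective f
  ne : f (PresentedGroup.of 0) ≠ 1
  out : f (PresentedGroup.of 6) ∉ (Data.sub (wordRels CPC.relWords) CPC.subWords).map f
  comm : ∀ i, f (PresentedGroup.of 0) * f (qC i) = f (qC i) * f (PresentedGroup.of 0)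
  pair : ∀ i j, i ≠ j → f (qC i) * f (qC j) = f (PresentedGroup.of 0) * (f (qC j) * f (qC i))

variable {f} (I : Image f)

theorem CPC_sub_CPA : CPA.relWords = CPC.relWords ++ [[(0, true)], [(1, true)]] := by
  decide +kernel

include I in
theorem normal : (K.map f).Normal := (normalClosure_normal).map f I.surj

include I in
theorem quotient_iso (hn : (K.map f).Normal) :
    Nonempty ((C ⧸ K.map f) ≃* alternatingGroup (Fin 9)) := by
  let q := (QuotientGroup.mk' (K.map f)).comp f
  have hq : FreeGroup.lift (fun i => q (PresentedGroup.of i)) = q.comp (PresentedGroup.mk _) := by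
    apply FreeGroup.ext_hom; intro b; simp [PresentedGroup.of]
  let g : PA →* C ⧸ K.map f := PresentedGroup.toGroup (f := fun i => q (PresentedGroup.of i))
    (rel_one fun l hl => by
      rw [hq, MonoidHom.comp_apply]
      rw [CPC_sub_CPA, List.mem_append] at hl
      rcases hl with hl | hl
      · rw [PresentedGroup.one_of_mem (List.mem_map_of_mem hl), map_one]
      · simp only [List.mem_cons, List.not_mem_nil, or_false] at hl
        rcases hl with rfl | rfl
        · exact (QuotientGroup.eq_one_iff _).2
            (mem_map_of_mem f (subset_normalClosure (Or.inl rfl)))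
        · exact (QuotientGroup.eq_one_iff _).2
            (mem_map_of_mem f (subset_normalClosure (Or.inr rfl))))
  have hg : ∀ i, g (PresentedGroup.of i) = q (PresentedGroup.of i) := fun i => by simp [g]
  have hgs : Function.Surjective g := by
    rw [← MonoidHom.range_eq_top, eq_top_iff]
    have hqs : q.range = ⊤ := MonoidHom.range_eq_top.2
      ((QuotientGroup.mk'_surjective _).comp I.surj)
    rw [← hqs, MonoidHom.range_eq_map, ← PresentedGroup.closure_range_of (wordRels CPC.relWords),
      Subgroup.map_le_iff_le_comap, Subgroup.closure_le]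
    rintro _ ⟨i, rfl⟩
    exact ⟨PresentedGroup.of i, hg i⟩
  have hsimple : IsSimpleGroup (alternatingGroup (Fin 9)) :=
    alternatingGroup.isSimpleGroup (by simp [Nat.card_eq_fintype_card])
  let g' := g.comp isoA9.symm.toMonoidHom
  have hgs' : Function.Surjective g' := hgs.comp isoA9.symm.surjective
  rcases Subgroup.Normal.eq_bot_or_eq_top (MonoidHom.normal_ker g') with h | h
  · exact ⟨(MulEquiv.ofBijective g' ⟨(MonoidHom.ker_eq_bot_iff _).1 h, hgs'⟩).symm⟩
  · exfalso
    apply I.out
    obtain ⟨y, hy⟩ := hgs' (QuotientGroup.mk (f (PresentedGroup.of 6)))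
    have h1 : (QuotientGroup.mk (f (PresentedGroup.of 6)) : C ⧸ K.map f) = 1 := by
      rw [← hy]; exact MonoidHom.mem_ker.1 (h ▸ Subgroup.mem_top y)
    exact Subgroup.map_mono K_le_sub ((QuotientGroup.eq_one_iff _).1 h1)

/-- The subgroup generated by the eight involutions and `a`. -/
def Q0 (f : PC →* C) : Subgroup C :=
  closure (insert (f (PresentedGroup.of 0)) (Set.range fun i => f (qC i)))

theorem Q0_le : Q0 f ≤ K.map f := by
  rw [Q0, Subgroup.closure_le]
  rintro x (rfl | ⟨i, rfl⟩)
  · exact mem_map_of_mem f (subset_normalClosure (Or.inl rfl))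
  · exact mem_map_of_mem f (qC_mem i)

theorem rel_sq (i : Fin 7) (hi : i.val < 2) :
    (PresentedGroup.of i : PC) * PresentedGroup.of i = 1 := by
  have h : [(i, true), (i, true)] ∈ CPC.relWords :=
    (show ∀ i : Fin 7, i.val < 2 → [(i, true), (i, true)] ∈ CPC.relWords by decide +kernel) i hi
  exact PresentedGroup.one_of_mem (List.mem_map_of_mem h)

include I in
theorem eight : Eight (⟨f (PresentedGroup.of 0), subset_closure (Or.inl rfl)⟩ : Q0 f)
    (fun i => ⟨f (qC i), subset_closure (Or.inr ⟨i, rfl⟩)⟩) where
  ne h := I.ne (congrArg Subtype.val h)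
  sq := Subtype.ext (by
    show f _ * f _ = 1
    rw [← map_mul, rel_sq 0 (by decide), map_one])
  comm i := Subtype.ext (I.comm i)
  qsq i := Subtype.ext (by
    show f _ * f _ = 1
    have h : qC i * qC i = 1 := by
      have h1 := rel_sq 1 (by decide)
      simp only [qC]
      calc _ = (PresentedGroup.mk (wordRels CPC.relWords) (FreeGroup.mk (qWord i)))⁻¹ *
            (PresentedGroup.of 1 * PresentedGroup.of 1) *
            PresentedGroup.mk (wordRels CPC.relWords) (FreeGroup.mk (qWord i)) := by group
        _ = 1 := by rw [h1]; group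
    rw [← map_mul, h, map_one])
  pair i j hij := Subtype.ext (I.pair i j hij)
  gen := by
    apply Subgroup.map_injective (Subgroup.subtype_injective (Q0 f))
    rw [MonoidHom.map_closure, ← MonoidHom.range_eq_map, Subgroup.range_subtype]
    show Subgroup.closure _ = Subgroup.closure _
    congr 1
    rw [Set.image_insert_eq, ← Set.range_comp]
    rfl

include I in
theorem card_ge [Finite C] : 92897280 ≤ Nat.card C := by
  have hn := normal I
  obtain ⟨e⟩ := quotient_iso I hn
  have h := Subgroup.card_eq_card_quotient_mul_card_subgroup (K.map f)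
  rw [Nat.card_congr e.toEquiv, card_alt9] at h
  have h2 := (eight I).card_ge
  have h3 := Subgroup.card_le_of_le (Q0_le (f := f))
  rw [h]
  omega

include I in
/-- The structure of an image of least order. -/
theorem exact_case [Finite C] (hle : Nat.card C ≤ 92897280) :
    ∃ (Q : Subgroup C) (_ : Q.Normal), Nat.card Q = 2 ^ 9 ∧ Cfsg.IsExtraspecial 2 Q ∧
      Nonempty (C ⧸ Q ≃* alternatingGroup (Fin 9)) := by
  have hn := normal I
  obtain ⟨e⟩ := quotient_iso I hn
  have h := Subgroup.card_eq_card_quotient_mul_card_subgroup (K.map f)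
  rw [Nat.card_congr e.toEquiv, card_alt9] at h
  have h2 := (eight I).card_ge
  have h3 := Subgroup.card_le_of_le (Q0_le (f := f))
  have heq : Q0 f = K.map f := Subgroup.eq_of_le_of_card_ge Q0_le (by omega)
  have h4 := (eight I).isExtraspecial (by omega)
  refine ⟨K.map f, hn, ?_, heq ▸ h4.2, ⟨e⟩⟩
  rw [← heq, h4.1]
  norm_num

end image

end Cfsg.Agent.ThCent
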