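import Cfsg.Agent.ThCent.FixDefs

/-! Kernel checks for the suborbits. -/

set_option autoImplicit false
set_option Elab.async false
set_option maxRecDepth 100000

namespace Cfsg.Agent.ThCent

open Cfsg.Agent.CosetCert Cfsg.Agent.DCoset

theorem node_all : allFrom (fun m => allFrom (checkNode m) 0 (Th.cover.nStab m)) 0 11 = true := by
  decide +kernel

theorem pair_all : allFrom checkPair 0 288 = true := by decide +kernel

theorem wit_all : allFrom (fun m => allFrom (checkWit m) 0 819) 0 11 = true := by decide +kernel

theorem kept_all : allFrom (fun m => Nat.ble (kept m 819) (keptMax.getD m 0)) 0 11 = true := by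
  decide +kernel

theorem sizes_eq :
    allFrom (fun m => Nat.beq (Nat.mul (Th.cover.idx m) ([634023936, 36864, 13824, 288, 6, 72, 3528, 54, 126, 78, 486].getD m 0))
      634023936) 0 11 = true := by
  decide +kernel

end Cfsg.Agent.ThCent
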