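import Cfsg.Agent.ThCent.PointDefs
import Cfsg.Agent.ThCent.FixData
import Cfsg.Agent.DCoset.Th.CoverDefs

/-!
Checks that bound the conjugates of `a` lying in the stabilisers of the suborbits.
-/

set_option autoImplicit false

namespace Cfsg.Agent.ThCent

open Cfsg.Agent.CosetCert Cfsg.Agent.DCoset

/-- A packed word in the letters of the model, applied to a point. -/
noncomputable def evT (w p : Nat) : Nat :=
  foldW (fun g v => Th.tab.act g v) (w % 65536) (w / 65536) p

/-- The pair `(x, y)` lies in the listed orbit. -/
noncomputable def inMask (x y : Nat) : Bool :=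
  gate (Nat.blt x 819) (gate (Nat.blt y 819)
    (Nat.beq (Nat.mod (Nat.shiftRight (mask x) y) 2) 1))

/-- The permutation of a word maps the pairs at `x` into the orbit. -/
noncomputable def checkRow (w x : Nat) : Bool :=
  Bool.rec (motive := fun _ => Bool)
    (force (evT w x) fun x' => allFrom (fun y =>
      Bool.rec (motive := fun _ => Bool) true (inMask x' (evT w y)) (inMask x y)) 0 819)
    true (Nat.beq (mask x) 0)

/-- The stabiliser word `a` of node `m` preserves the colours, and at node 3 the orbit of pairs. -/
noncomputable def checkNode (m a : Nat) : Bool :=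
  force (Th.cover.stabW m a) fun w =>
    gate (Th.tab.okWord w)
      (gate (allFrom (fun p => Nat.beq (col m (evT w p)) (col m p)) 0 819)
        (Bool.rec (motive := fun _ => Bool) true
          (allFrom (checkRow w) 0 819) (Nat.beq m 3)))

/-- The pair `i` of node 3 is in the bit sets and consists of points. -/
noncomputable def checkPair (i : Nat) : Bool :=
  force (pairs i) fun v => inMask (Nat.mod v 1024) (Nat.div v 1024)

/-- The witness for the conjugate `p` at node `m`. -/
noncomputable def checkWit (m p : Nat) : Bool :=
  force (wit m p) fun w =>
    Bool.rec (motive := fun _ => Bool)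
      (Bool.rec (motive := fun _ => Bool)
        (gate (Nat.beq m 3) (gate (Nat.blt (Nat.sub w 1024) 288)
          (force (pairs (Nat.sub w 1024)) fun v =>
            Bool.rec (motive := fun _ => Bool) true false
              (inMask (run (cA p) (Nat.mod v 1024)) (run (cA p) (Nat.div v 1024))))))
        (Bool.rec (motive := fun _ => Bool) true false (Nat.beq (col m (run (cA p) w)) (col m w)))
        (Nat.blt w 819))
      true (Nat.beq w 2047)

/-- The number of conjugates not excluded at node `m`. -/
noncomputable def kept (m n : Nat) : Nat :=
  Nat.rec 0 (fun p ih => Bool.rec (motive := fun _ => Nat) ih (Nat.succ ih) (Nat.beq (wit m p) 2047)) n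

/-- How many conjugates of `a` can lie in the stabiliser of node `m`. -/
def keptMax : List Nat := [819, 51, 19, 3, 0, 0, 0, 0, 0, 0, 0]

end Cfsg.Agent.ThCent
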