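import Cfsg.Agent.ThCent.PointDefs

/-! Kernel checks on the 819 points. -/

set_option autoImplicit false
set_option Elab.async false
set_option maxRecDepth 100000

namespace Cfsg.Agent.ThCent

open Cfsg.Agent.CosetCert

theorem a_all0 : allFrom checkA 0 200 = true := by decide +kernel

theorem a_all200 : allFrom checkA 200 200 = true := by decide +kernel

theorem a_all400 : allFrom checkA 400 200 = true := by decide +kernel

theorem a_all600 : allFrom checkA 600 200 = true := by decide +kernel

theorem a_all800 : allFrom checkA 800 19 = true := by decide +kernel

theorem a_all : allFrom checkA 0 819 = true :=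
  (DCoset.allFrom_append 800 (DCoset.allFrom_append 600 (DCoset.allFrom_append 400 (DCoset.allFrom_append 200 a_all0 a_all200) a_all400) a_all600) a_all800)

theorem ordA_all : allFrom checkOrdA 0 818 = true := by decide +kernel

theorem b_all0 : allFrom checkB 0 600 = true := by decide +kernel

theorem b_all600 : allFrom checkB 600 600 = true := by decide +kernel

theorem b_all1200 : allFrom checkB 1200 600 = true := by decide +kernel

theorem b_all1800 : allFrom checkB 1800 468 = true := by decide +kernel

theorem b_all : allFrom checkB 0 2268 = true :=
  (DCoset.allFrom_append 1800 (DCoset.allFrom_append 1200 (DCoset.allFrom_append 600 b_all0 b_all600) b_all1200) b_all1800)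

theorem ordB_all0 : allFrom checkOrdB 0 500 = true := by decide +kernel

theorem ordB_all500 : allFrom checkOrdB 500 500 = true := by decide +kernel

theorem ordB_all1000 : allFrom checkOrdB 1000 500 = true := by decide +kernel

theorem ordB_all1500 : allFrom checkOrdB 1500 500 = true := by decide +kernel

theorem ordB_all2000 : allFrom checkOrdB 2000 267 = true := by decide +kernel

theorem ordB_all : allFrom checkOrdB 0 2267 = true :=
  (DCoset.allFrom_append 2000 (DCoset.allFrom_append 1500 (DCoset.allFrom_append 1000 (DCoset.allFrom_append 500 ordB_all0 ordB_all500) ordB_all1000) ordB_all1500) ordB_all2000)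

theorem tr_all0 : allFrom checkTr 0 420 = true := by decide +kernel

theorem tr_all420 : allFrom checkTr 420 399 = true := by decide +kernel

theorem tr_all : allFrom checkTr 0 819 = true :=
  (DCoset.allFrom_append 420 tr_all0 tr_all420)

theorem act_all : allFrom checkAct 0 9 = true := by decide +kernel

theorem fix_a : fixCount [0] 819 = 19 := by decide +kernel

theorem fix_repB : fixCount repB 819 = 27 := by decide +kernel

theorem wA_zero : decW (wA 0) = [] := by decide +kernel

end Cfsg.Agent.ThCent
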