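import Cfsg.Agent.ThCent.Data

/-!
Words in the point group `³D₄(2):3` on 819 points: evaluation and the Boolean checks.
-/

set_option autoImplicit false

namespace Cfsg.Agent.ThCent

open Cfsg.Agent.CosetCert Cfsg.Agent.DCoset

/-- The inverse letter. -/
def ivl (g : Nat) : Nat :=
  if g = 5 then 6 else if g = 6 then 5 else if g = 7 then 8 else if g = 8 then 7 else g

/-- The inverse word. -/
def invW (l : List Nat) : List Nat := l.reverse.map ivl

/-- A word conjugated by a word. -/
def conjW (x g : List Nat) : List Nat := invW g ++ x ++ g

/-- Decode a word of digits `letter + 1` in base 16. -/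
noncomputable def decW (v : Nat) : List Nat :=
  Nat.rec (motive := fun _ => Nat → List Nat) (fun _ => [])
    (fun _ ih v => force v fun v =>
      Bool.rec (motive := fun _ => List Nat) (Nat.pred (Nat.mod v 16) :: ih (Nat.div v 16)) []
        (Nat.beq v 0)) 32 v

/-- All letters are among the nine. -/
noncomputable def okW (l : List Nat) : Bool :=
  List.rec true (fun g _ ih => gate (Nat.blt g 9) ih) l

/-- A word applied to a point from the left letter on. -/
noncomputable def run (l : List Nat) (p : Nat) : Nat :=
  List.rec (motive := fun _ => Nat → Nat) (fun p => p)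
    (fun g _ ih p => force (act g p) fun q => ih q) l p

/-- The images of the base `1, 3, 5, 9, 15`. -/
noncomputable def key (l : List Nat) : Nat :=
  Nat.add (run l 1) (Nat.mul 1024 (Nat.add (run l 3) (Nat.mul 1024 (Nat.add (run l 5)
    (Nat.mul 1024 (Nat.add (run l 9) (Nat.mul 1024 (run l 15))))))))

/-- The representative `(a c) ^ b · e` of the second class of involutions. -/
def repB : List Nat := [1, 0, 2, 1, 4]

/-- The listed conjugate `p` of `a`. -/
noncomputable def cA (p : Nat) : List Nat := conjW [0] (decW (wA p))

/-- The listed conjugate `i` of the second representative. -/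
noncomputable def cB (i : Nat) : List Nat := conjW repB (decW (wB i))

/-- The conjugate `p` of `a` has its key, and conjugation by a letter leads to a listed one. -/
noncomputable def checkA (p : Nat) : Bool :=
  gate (okW (decW (wA p))) (gate (Nat.beq (key (cA p)) (kA p))
    (allFrom (fun g => force (nxtA p g) fun q => gate (Nat.blt q 819)
      (Nat.beq (key (conjW [0] (decW (wA p) ++ [g]))) (kA q))) 0 9))

/-- The keys of the conjugates of `a` increase along `ordA`. -/
noncomputable def checkOrdA (i : Nat) : Bool :=
  gate (Nat.blt (ordA i) 819) (gate (Nat.blt (ordA (Nat.succ i)) 819)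
    (Nat.blt (kA (ordA i)) (kA (ordA (Nat.succ i)))))

/-- The conjugate `i` of the second representative fixes the point `1`. -/
noncomputable def checkB (i : Nat) : Bool :=
  gate (okW (decW (wB i))) (Nat.beq (run (cB i) 1) 1)

/-- The keys of the listed conjugates of the second representative increase. -/
noncomputable def checkOrdB (i : Nat) : Bool :=
  Nat.blt (key (cB i)) (key (cB (Nat.succ i)))

/-- The transversal word of a point. -/
noncomputable def checkTr (p : Nat) : Bool :=
  gate (okW (decW (tr p))) (Nat.beq (run (decW (tr p)) 1) p)

/-- The letters permute the points. -/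
noncomputable def checkAct (g : Nat) : Bool :=
  allFrom (fun p => Nat.blt (act g p) 819) 0 819

/-- The number of fixed points of a word below `n`. -/
noncomputable def fixCount (l : List Nat) (n : Nat) : Nat :=
  Nat.rec 0 (fun p ih => Bool.rec (motive := fun _ => Nat) ih (Nat.succ ih) (Nat.beq (run l p) p)) n

end Cfsg.Agent.ThCent
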