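import Cfsg.Agent.ThCent.Assemble
import Cfsg.Agent.ThCent.FixChecks
import Cfsg.Agent.DCoset.Th.Model

/-!
The model of `⟨a, b, c, d, e, s, t⟩` as a point group, and the conjugates of `a` in the
stabilisers of the eleven suborbits.
-/

set_option autoImplicit false
set_option maxRecDepth 100000

namespace Cfsg.Agent.ThCent

open Cfsg.Agent.CosetCert Cfsg.Agent.DCoset Subgroup

/-- A letter here as a basic letter of the model. -/
def toModel (g : Fin 9) : Nat := [0, 1, 2, 3, 4, 5, 7, 6, 8].getD g.val 0

theorem toModel_lt : ∀ g : Fin 9, toModel g < 9 := by decide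

theorem tables_agree : allFrom (fun g => allFrom (fun p =>
    Nat.beq (act g p) (Th.tab.act ([0, 1, 2, 3, 4, 5, 7, 6, 8].getD g 0) p)) 0 819) 0 9 = true := by
  decide +kernel

theorem toModel_ivl : ∀ g : Fin 9, toModel (Fin.ofNat 9 (ivl g)) = Th.ivL (toModel g) := by
  decide

theorem rho_injective : Function.Injective Th.rho := by
  refine (injective_iff_map_eq_one _).2 fun x hx => Th.rho_faithful x fun l _ => ?_
  rw [hx, inv_one, Equiv.Perm.one_apply]

/-- The point group of Th. -/
noncomputable def point : Point Th.HGroup where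
  ρ := Th.rho
  el g := Th.qB (toModel g)
  el_inv g := rho_injective (by
    rw [map_inv, Th.rho_qB (toModel_lt _), Th.rho_qB (toModel_lt _), toModel_ivl,
      Th.letEl_inv (toModel_lt g)])
  act_el g p := by
    rw [Th.rho_qB (toModel_lt g), Th.letEl, inv_inv, Th.letPerm_val, Fin.val_ofNat,
      Nat.mod_eq_of_lt (toModel_lt g)]
    exact (Nat.eq_of_beq_eq_true (allFrom_all (allFrom_all tables_agree g.2) p.2)).symm
  base_inj x h1 h3 h5 h9 h15 := by
    refine Th.rho_faithful x fun l hl => ?_
    change l < 5 at hl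
    rw [Equiv.Perm.inv_eq_iff_eq]
    interval_cases l
    exacts [h1.symm, h3.symm, h5.symm, h9.symm, h15.symm]
  gen := by
    rw [eq_top_iff, ← PresentedGroup.closure_range_of (wordRels Th.HRels), closure_le]
    rintro _ ⟨b, rfl⟩
    obtain ⟨g, hg⟩ := (show ∀ b : Fin 7, ∃ g : Fin 9, toModel g = b.val by decide) b
    refine subset_closure ⟨g, ?_⟩
    show Th.qB (toModel g) = _
    rw [hg, Th.qB, if_pos b.2]
    congr 1
    exact Fin.ext (by rw [Fin.val_ofNat, Nat.mod_eq_of_lt b.2])

theorem rho_el_word : ∀ n w, lettersBelow 16 n w = true → ∀ p : Fin 819,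
    ((((Th.rho (valW Th.qL n w))⁻¹) p : Fin 819) : ℕ) = foldW (fun g v => Th.tab.act g v) n w p
  | 0, w, _, p => by simp [valW, foldW]
  | n + 1, w, hl, p => by
    rw [lettersBelow_succ, Bool.and_eq_true] at hl
    rw [valW, map_mul, mul_inv_rev, Equiv.Perm.mul_apply, rho_el_word n _ hl.2, foldW_succ]
    congr 1
    exact (Th.acts.act_eq _ (Nat.ble_eq.mp hl.1) p).symm

theorem rho_el {w : Nat} (hw : Th.tab.okWord w = true) (p : Fin 819) :
    ((((Th.rho (Th.model.el w))⁻¹) p : Fin 819) : ℕ) = evT w p :=
  rho_el_word _ _ hw p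

/-- The elements preserving the colours of node `m`, and at node 3 the orbit of pairs. -/
def invar (m : ℕ) : Submonoid Th.HGroup where
  carrier := {q | (∀ p : Fin 819, col m ((Th.rho q)⁻¹ p : Fin 819) = col m p) ∧
    (m = 3 → ∀ x y : Fin 819, inMask x y = true →
      inMask ((Th.rho q)⁻¹ x : Fin 819) ((Th.rho q)⁻¹ y : Fin 819) = true)}
  one_mem' := ⟨fun p => by simp, fun _ x y h => by simpa using h⟩
  mul_mem' := by
    rintro a b ⟨a1, a2⟩ ⟨b1, b2⟩
    refine ⟨fun p => ?_, fun hm x y h => ?_⟩
    · rw [map_mul, mul_inv_rev, Equiv.Perm.mul_apply, b1, a1]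
    · rw [map_mul, mul_inv_rev, Equiv.Perm.mul_apply, Equiv.Perm.mul_apply]
      exact b2 hm _ _ (a2 hm x y h)

theorem stab_mem_invar {m a : ℕ} (hm : m < 11) (ha : a < Th.cover.nStab m) :
    Th.model.el (Th.cover.stabW m a) ∈ invar m := by
  have h := allFrom_all (allFrom_all node_all hm) ha
  simp only [checkNode, force_eq, gate_eq, Bool.and_eq_true] at h
  obtain ⟨hw, hc, hp⟩ := h
  refine ⟨fun p => ?_, fun h3 x y hxy => ?_⟩
  · rw [rho_el hw]
    exact Nat.eq_of_beq_eq_true (allFrom_all hc p.2)
  · subst h3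
    rw [rho_el hw, rho_el hw]
    have hr := allFrom_all (show allFrom (checkRow (Th.cover.stabW 3 a)) 0 819 = true from hp) x.2
    simp only [checkRow, force_eq] at hr
    have hne : Nat.beq (mask x) 0 = false := by
      rw [Bool.eq_false_iff]
      intro h0
      simp only [inMask, gate_eq, Bool.and_eq_true] at hxy
      have := Nat.eq_of_beq_eq_true hxy.2.2
      rw [Nat.eq_of_beq_eq_true h0] at this
      simp at this
    rw [hne] at hr
    have hy := allFrom_all (show allFrom _ 0 819 = true from hr) y.2
    rw [hxy] at hy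
    exact hy

theorem stab_count (m : ℕ) (hm : m < 11) (St : Subgroup Th.HGroup)
    (hmem : ∀ a, a < Th.cover.nStab m → Th.model.el (Th.cover.stabW m a) ∈ St)
    (hcard : Nat.card St * Th.cover.idx m = 634023936)
    (hchain : Th.cover.idx m * ((List.range 5).map (Th.cover.chain m).size).prod = 634023936)
    (hgen : ∀ l a, l < 5 → a < (Th.cover.chain m).nGen l →
      QModel.checkGen Th.tab (Th.cover.chain m) l a = true)
    (hmem' : ∀ l a, l < 5 → a < (Th.cover.chain m).nGen l →
      ∃ b, b < Th.cover.nStab m ∧ (Th.cover.chain m).gen l a = Th.cover.stabW m b)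
    (hpt : ∀ l j, l < 5 → j < (Th.cover.chain m).size l →
      QModel.checkPt Th.tab (Th.cover.chain m) l j = true) :
    Nat.card {s : Th.HGroup // s ∈ St ∧ IsConj point.za s} ≤ keptMax.getD m 0 := by
  classical
  have := Th.hgroup_card.1
  set W := closure {x | ∃ a, a < Th.cover.nStab m ∧ x = Th.model.el (Th.cover.stabW m a)}
  have hW : W ≤ St := by
    rw [closure_le]
    rintro x ⟨a, ha, rfl⟩
    exact hmem a ha
  have hge := Th.model.card_ge W (Th.cover.chain m) (fun l a hl ha => by
    obtain ⟨b, hb, e⟩ := hmem' l a hl ha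
    rw [e]
    exact subset_closure ⟨b, hb, rfl⟩) hgen hpt
  have hWeq : W = St := by
    refine eq_of_le_of_card_ge hW ?_
    refine le_trans (le_of_eq ?_) hge
    have hpos : 0 < Th.cover.idx m := Nat.pos_of_ne_zero fun h => by rw [h] at hcard; omega
    apply Nat.eq_of_mul_eq_mul_right hpos
    rw [hcard, mul_comm, ← hchain]
    rfl
  have hinv : ∀ q ∈ St, q ∈ invar m := by
    rw [← hWeq]
    intro q hq
    have pinv : ∀ {u : Th.HGroup}, u ∈ invar m → u⁻¹ ∈ invar m := fun {u} hu => by
      obtain ⟨n, hn⟩ : ∃ n : ℕ, u ^ n = u⁻¹ := ⟨orderOf u - 1, eq_inv_of_mul_eq_one_left (by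
        rw [← pow_succ, Nat.sub_add_cancel (orderOf_pos u), pow_orderOf_eq_one])⟩
      exact hn ▸ (invar m).pow_mem hu n
    induction hq using closure_induction with
    | mem u hu => obtain ⟨a, ha, rfl⟩ := hu; exact stab_mem_invar hm ha
    | one => exact (invar m).one_mem
    | mul u v _ _ hu hv => exact (invar m).mul_mem hu hv
    | inv u _ hu => exact pinv hu
  have hkept : ∀ n, kept m n = ((Finset.range n).filter fun p => wit m p = 2047).card := by
    intro n
    induction n with
    | zero => rfl
    | succ n ih =>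
      rw [Finset.range_add_one, Finset.filter_insert]
      show Bool.rec (motive := fun _ => Nat) (kept m n) (Nat.succ (kept m n))
        (Nat.beq (wit m n) 2047) = _
      cases hb : Nat.beq (wit m n) 2047
      · rw [if_neg fun e => Bool.false_ne_true (hb.symm.trans (by rw [e]; rfl))]
        exact ih
      · rw [if_pos (Nat.eq_of_beq_eq_true hb), Finset.card_insert_of_notMem (by simp)]
        show kept m n + 1 = _
        rw [ih]
  have hle : Nat.card {s : Th.HGroup // s ∈ St ∧ IsConj point.za s} ≤ kept m 819 := by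
    rw [hkept, ← Nat.card_eq_finsetCard]
    have hex : ∀ s : {s : Th.HGroup // s ∈ St ∧ IsConj point.za s},
        ∃ p : Fin 819, point.conjA p = s.1 ∧ wit m p = 2047 := by
      intro s
      obtain ⟨p, hp⟩ := point.conjA_surj s.2.2
      refine ⟨p, hp, ?_⟩
      obtain ⟨hc, hpair⟩ := hinv _ (hp ▸ s.2.1)
      have happ : ∀ x : Fin 819, (((Th.rho (point.conjA p))⁻¹ x : Fin 819) : ℕ) = run (cA p) x :=
        fun x => point.apply_wordEl _ (conjW_lt zero_lt (wA_lt p.2)) x
      by_contra hne
      have h := allFrom_all (allFrom_all wit_all hm) p.2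
      have hne' : Nat.beq (wit m p) 2047 = false := by
        rw [Bool.eq_false_iff]; exact fun h => hne (Nat.eq_of_beq_eq_true h)
      simp only [checkWit, force_eq, hne'] at h
      cases hlt : Nat.blt (wit m p) 819
      · simp only [hlt, gate_eq, Bool.and_eq_true] at h
        obtain ⟨hm3, hi, hj⟩ := h
        have hm3 := Nat.eq_of_beq_eq_true hm3
        set v := pairs (Nat.sub (wit m p) 1024)
        have hin : inMask (Nat.mod v 1024) (Nat.div v 1024) = true := by
          have := allFrom_all pair_all (Nat.ble_eq.mp hi)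
          simp only [checkPair, force_eq] at this
          exact this
        have hb := hin
        simp only [inMask, gate_eq, Bool.and_eq_true] at hb
        have := hpair hm3 ⟨_, Nat.ble_eq.mp hb.1⟩ ⟨_, Nat.ble_eq.mp hb.2.1⟩ hin
        rw [happ, happ] at this
        rw [this] at hj
        exact Bool.false_ne_true hj
      · simp only [hlt] at h
        have hw := Nat.ble_eq.mp hlt
        have e := hc ⟨wit m p, hw⟩
        rw [happ] at e
        have hb : Nat.beq (col m (run (cA p) (wit m p))) (col m (wit m p)) = true :=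
          Nat.beq_eq.mpr e
        rw [hb] at h
        exact Bool.false_ne_true h
    choose f hf hf' using hex
    refine Nat.card_le_card_of_injective
      (fun s => (⟨(f s).val, Finset.mem_filter.2 ⟨Finset.mem_range.2 (f s).2, hf' s⟩⟩ :
        ((Finset.range 819).filter fun p => wit m p = 2047 : Finset ℕ))) fun s t h => ?_
    apply Subtype.ext
    rw [← hf s, ← hf t, Fin.ext (congrArg Subtype.val h)]
  exact hle.trans (Nat.ble_eq.mp (allFrom_all kept_all hm))

theorem node_fix_le : ∀ m : Fin 11,
    774144 * keptMax.getD m.val 0 ≤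
      [1, 1071, 1064, 8064, 0, 0, 0, 0, 0, 0, 0].getD m.val 0 *
        [634023936, 36864, 13824, 288, 6, 72, 3528, 54, 126, 78, 486].getD m.val 0 := by
  decide +kernel

/-- The fixed cosets of `a`, given the suborbits of the point group. -/
theorem fix_le {G : Type*} [Group G] [Finite G] (ι : Th.HGroup →* G)
    (pt : Fin 11 → G ⧸ ι.range) (label : G ⧸ ι.range → Fin 11)
    (hlab : ∀ q z, label (ι q • z) = label z) (hcov : ∀ z, ∃ q, z = ι q • pt (label z))
    (hpt : ∀ m, label (pt m) = m)
    (hcard : ∀ m : Fin 11, Nat.card ↥((MulAction.stabilizer G (pt m)).comap ι) * Th.cover.idx m =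
      634023936)
    (hmem : ∀ (m : Fin 11) a, a < Th.cover.nStab m →
      ι (Th.model.el (Th.cover.stabW m a)) • pt m = pt m)
    (hchain : ∀ m, m < 11 →
      Th.cover.idx m * ((List.range 5).map (Th.cover.chain m).size).prod = 634023936)
    (hgen : ∀ m l a, m < 11 → l < 5 → a < (Th.cover.chain m).nGen l →
      QModel.checkGen Th.tab (Th.cover.chain m) l a = true)
    (hmem' : ∀ m l a, m < 11 → l < 5 → a < (Th.cover.chain m).nGen l →
      ∃ b, b < Th.cover.nStab m ∧ (Th.cover.chain m).gen l a = Th.cover.stabW m b)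
    (hpt' : ∀ m l j, m < 11 → l < 5 → j < (Th.cover.chain m).size l →
      QModel.checkPt Th.tab (Th.cover.chain m) l j = true) :
    Nat.card {z : G ⧸ ι.range // ι point.za • z = z} ≤ 10200 := by
  classical
  have := Th.hgroup_card.1
  let : MulAction Th.HGroup (G ⧸ ι.range) := MulAction.compHom _ ι
  have hsum := FixCount.card_fixed_sum (Q := Th.HGroup) pt label hlab
    (fun z => by obtain ⟨q, hq⟩ := hcov z; exact ⟨q, hq.symm⟩) hpt point.za
  refine le_of_eq_of_le hsum ?_
  calc _ ≤ ∑ m : Fin 11, [1, 1071, 1064, 8064, 0, 0, 0, 0, 0, 0, 0].getD m.val 0 := by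
        refine Finset.sum_le_sum fun m _ => ?_
        have h := FixCount.card_fixed_mul (Q := Th.HGroup) (pt m) point.za
        have hst : MulAction.stabilizer Th.HGroup (pt m) =
            (MulAction.stabilizer G (pt m)).comap ι := rfl
        have hk := stab_count m m.2 _ (fun a ha => hmem m a ha) (hcard m) (hchain m m.2)
          (fun l a => hgen m l a m.2) (fun l a => hmem' m l a m.2) (fun l j => hpt' m l j m.2)
        rw [hst, point.card_centralizer_za Th.hgroup_card_eq] at h
        have hsz := Nat.eq_of_beq_eq_true (allFrom_all sizes_eq m.2)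
        rw [Nat.mul_eq] at hsz
        have hpos : 0 < Th.cover.idx m := Nat.pos_of_ne_zero fun h0 => by
          rw [h0, zero_mul] at hsz; omega
        have ho : Nat.card ↥((MulAction.stabilizer G (pt m)).comap ι) =
            [634023936, 36864, 13824, 288, 6, 72, 3528, 54, 126, 78, 486].getD m.val 0 := by
          apply Nat.eq_of_mul_eq_mul_right hpos
          rw [hcard m, mul_comm, hsz]
        rw [ho] at h
        have hop : 0 < [634023936, 36864, 13824, 288, 6, 72, 3528, 54, 126, 78, 486].getD m.val 0 :=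
          ho ▸ Nat.card_pos
        refine Nat.le_of_mul_le_mul_right ?_ hop
        exact h.le.trans ((Nat.mul_le_mul_left _ hk).trans (node_fix_le m))
    _ = 10200 := by decide

end Cfsg.Agent.ThCent
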